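import Groth.Agent.Lib.OrbitTop19.Closed
import Groth.Agent.Lib.GITSS15.Data
import Groth.Agent.Lib.RegSmooth17.Scheme
import Groth.Agent.Lib.SerreCrit.Basic
import Groth.Prelude.Def_Pi1

/-!
# Opens stable under an action, and the smooth locus
-/

set_option autoImplicit false
set_option linter.style.haveILetI false
set_option backward.isDefEq.respectTransparency false
set_option backward.isDefEq.respectTransparency.types false
universe u

open CategoryTheory CategoryTheory.Limits MonoidalCategory CartesianMonoidalCategory MonObj AlgebraicGeometry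
open Topology TopologicalSpace

namespace Groth.Agent.Sumihiro14

open OrbitTop19 (tr)

theorem opens_le_of_closedPoints {Z : Scheme.{u}} [JacobsonSpace Z] {U V : Z.Opens}
    (h : ∀ z : Z, IsClosed ({z} : Set Z) → z ∈ U → z ∈ V) : U ≤ V := by
  by_contra hne
  obtain ⟨z, hzU, hzV⟩ := SetLike.not_le_iff_exists.1 hne
  obtain ⟨w, ⟨hwU, hwV⟩, hw⟩ := nonempty_inter_closedPoints (Z := (U : Set Z) ∩ (V : Set Z)ᶜ) ⟨z, hzU, hzV⟩
    (U.isOpen.isLocallyClosed.inter V.isOpen.isClosed_compl.isLocallyClosed)
  exact hwV (h w hw hwU)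

variable {k : Type u} [Field k] {G X : Over (Spec (CommRingCat.of k))} [GrpObj G] (a : AlgGrp.Action G X)

theorem tr_tr (g d : 𝟙_ (Over (Spec (CommRingCat.of k))) ⟶ G) : tr a g ≫ tr a d = tr a (d * g) := by
  rw [OrbitTop19.comp_tr, tr, ← AlgGrpBasic19.act_mul, ← MonObj.comp_mul]
  rfl

theorem tr_one : tr a 1 = 𝟙 X := by
  rw [tr, MonObj.comp_one, AlgGrpBasic19.act_one]

variable [IsAlgClosed k] [LocallyOfFiniteType G.hom] [LocallyOfFiniteType X.hom]

/-- An open fixed by the translations is stable. -/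
theorem stable_of_tr (V : X.left.Opens) (h : ∀ g, (tr a g).left ⁻¹ᵁ V = V) :
    a.act.left ⁻¹ᵁ V = (snd G X).left ⁻¹ᵁ V := by
  haveI : LocallyOfFiniteType (G ⊗ X).hom :=
    inferInstanceAs (LocallyOfFiniteType (pullback.fst G.hom X.hom ≫ G.hom))
  haveI : JacobsonSpace (G ⊗ X).left := LocallyOfFiniteType.jacobsonSpace (G ⊗ X).hom
  have key : ∀ z : (G ⊗ X).left, IsClosed ({z} : Set (G ⊗ X).left) →
      (a.act.left z ∈ V ↔ (snd G X).left z ∈ V) := by
    intro z hz
    obtain ⟨p, hp⟩ := OrbitTop19.exists_point (G ⊗ X) z hz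
    let g := p ≫ fst G X
    let q := p ≫ snd G X
    have e : p ≫ a.act = q ≫ tr a g := by
      rw [OrbitTop19.comp_tr, Subsingleton.elim (toUnit _) (𝟙 (𝟙_ (Over (Spec (CommRingCat.of k))))),
        Category.id_comp, ← lift_comp_fst_snd p]
    subst hp
    rw [OrbitTop19.apply_comp_left p a.act _ e, OrbitTop19.apply_comp_left p (snd G X) q rfl,
      ← OrbitTop19.apply_comp_left q (tr a g) _ rfl]
    exact SetLike.ext_iff.1 (h g) _
  exact le_antisymm (opens_le_of_closedPoints fun z hz h => (key z hz).1 h)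
    (opens_le_of_closedPoints fun z hz h => (key z hz).2 h)

/-- The union of the translates of an open. -/
noncomputable def saturation (U₀ : X.left.Opens) : X.left.Opens := ⨆ g, (tr a g).left ⁻¹ᵁ U₀

omit [IsAlgClosed k] [LocallyOfFiniteType G.hom] [LocallyOfFiniteType X.hom] in
theorem mem_saturation {U₀ : X.left.Opens} {y : X.left} :
    y ∈ saturation a U₀ ↔ ∃ g, (tr a g).left y ∈ U₀ := Opens.mem_iSup

omit [IsAlgClosed k] [LocallyOfFiniteType G.hom] [LocallyOfFiniteType X.hom] in
theorem le_saturation (U₀ : X.left.Opens) : U₀ ≤ saturation a U₀ := fun y hy =>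
  (mem_saturation a).2 ⟨1, by rw [tr_one]; exact hy⟩

theorem stable_saturation (U₀ : X.left.Opens) :
    a.act.left ⁻¹ᵁ saturation a U₀ = (snd G X).left ⁻¹ᵁ saturation a U₀ := by
  refine stable_of_tr a _ fun g => Opens.ext (Set.ext fun y => ?_)
  change (tr a g).left y ∈ saturation a U₀ ↔ y ∈ saturation a U₀
  simp only [mem_saturation]
  constructor
  · rintro ⟨d, hd⟩
    exact ⟨d * g, by rw [← tr_tr, Over.comp_left, Scheme.Hom.comp_apply]; exact hd⟩
  · rintro ⟨d, hd⟩
    refine ⟨d * g⁻¹, ?_⟩
    rw [OrbitTop19.apply_comp_left (tr a g) (tr a (d * g⁻¹)) _ (tr_tr a g _), _root_.inv_mul_cancel_right]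
    exact hd

omit [GrpObj G] [IsAlgClosed k] [LocallyOfFiniteType G.hom] [LocallyOfFiniteType X.hom] in
theorem smoothLocus_congr {Y : Scheme.{u}} {f g : Y ⟶ Spec (CommRingCat.of k)} (h : f = g)
    [LocallyOfFinitePresentation f] [LocallyOfFinitePresentation g] : f.smoothLocus = g.smoothLocus := by
  subst h; rfl

/-- The smooth locus is stable. -/
theorem stable_smoothLocus :
    a.act.left ⁻¹ᵁ X.hom.smoothLocus = (snd G X).left ⁻¹ᵁ X.hom.smoothLocus := by
  refine stable_of_tr a _ fun g => ?_
  haveI : IsIso (tr a g).left :=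
    inferInstanceAs (IsIso ((Over.forget _).mapIso (OrbitTop19.trIso a g)).hom)
  rw [Scheme.Hom.preimage_smoothLocus_eq]
  exact smoothLocus_congr (Over.w (tr a g))

omit [GrpObj G] [LocallyOfFiniteType G.hom] in
/-- On a normal variety the points outside the smooth locus have codimension at least two. -/
theorem two_le_dim_of_not_mem_smoothLocus (hX : Pi1.IsNormalScheme X.left) (x : X.left)
    (hx : x ∉ X.hom.smoothLocus) : 2 ≤ ringKrullDim (X.left.presheaf.stalk x) := by
  haveI : IsLocallyNoetherian X.left := LocallyOfFiniteType.isLocallyNoetherian X.hom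
  haveI := (hX x).1
  haveI := (hX x).2
  by_contra h
  have h1 : ringKrullDim (X.left.presheaf.stalk x) ≤ 1 := by
    rw [not_le] at h
    revert h
    cases ringKrullDim (X.left.presheaf.stalk x) with
    | bot => intro _; exact bot_le
    | coe n =>
      intro h
      have h' : n < 2 := WithBot.coe_lt_coe.1 h
      exact WithBot.coe_le_coe.2 ((ENat.lt_coe_add_one_iff (n := 1)).1 (by simpa [one_add_one_eq_two] using h'))
  haveI := SerreCrit.isRegularLocalRing_of_normal _ h1
  exact hx (RegSmooth17.mem_smoothLocus_of_isRegularLocalRing X.hom x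
    (RegSmooth17.formallySmooth_residue_of_perfectField X.hom x))

end Groth.Agent.Sumihiro14
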