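import Groth.Agent.Lib.Ample18.Separated
import Groth.Agent.Lib.Ample18.Ample
import Groth.Agent.Lib.Ample18.Avoid

/-!
# Non-vanishing loci of linear combinations of sections
-/

set_option autoImplicit false
set_option linter.style.haveILetI false
set_option backward.isDefEq.respectTransparency false
universe u

open CategoryTheory CategoryTheory.Limits AlgebraicGeometry TopologicalSpace Opposite

noncomputable section

namespace Groth.Agent.Sumihiro14

open Groth.Agent.Amp (Gen gm gval)

variable {X : Scheme.{u}} {L : X.Modules}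

/-- The non-vanishing locus of a global section. -/
abbrev loc (t : Γ(L, ⊤)) : X.Opens := CohB1.genLocus L (M1.secHom t)

theorem mem_loc_iff (hL : PicF.IsInvertible L) {t : Γ(L, ⊤)} {x : X} :
    x ∈ loc t ↔ Gen (gm L x (U := ⊤) trivial t) := by
  rw [loc, Amp.mem_genLocus_iff hL, Amp.gval_secHom]

/-- A sum generating at a point has a summand generating there. -/
theorem exists_mem_loc_of_sum (hL : PicF.IsInvertible L) {J : Type*} (u : Finset J) (t : J → Γ(L, ⊤)) {x : X}
    (hx : x ∈ loc (∑ i ∈ u, t i)) : ∃ i ∈ u, x ∈ loc (t i) := by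
  by_contra h
  push Not at h
  rw [mem_loc_iff hL] at hx
  obtain ⟨U, e, hxU, -, -, he⟩ := Amp.exists_isGenerator hL (V := ⊤) (x := x) trivial
  have hg := Amp.gen_of_isGenerator he hxU
  choose c hc using fun i => hg.2 (gm L x (U := ⊤) trivial (t i))
  have hc' : ∀ i ∈ u, c i ∈ IsLocalRing.maximalIdeal (X.presheaf.stalk x) := fun i hi hu => by
    refine h i hi ((mem_loc_iff hL).2 ?_)
    rw [← hc i]
    exact (hg.ne_zero_smul _).2 hu
  have hs : gm L x (U := ⊤) trivial (∑ i ∈ u, t i) = (∑ i ∈ u, c i) • gm L x hxU e := by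
    rw [Finset.sum_smul]
    exact (map_sum (L.presheaf.germ ⊤ x trivial).hom t u).trans (Finset.sum_congr rfl fun i _ => (hc i).symm)
  rw [hs, hg.ne_zero_smul] at hx
  exact (IsLocalRing.mem_maximalIdeal _).1 (Ideal.sum_mem _ hc') hx

/-- Sections with affine loci are closed under sums. -/
theorem isAffineOpen_loc_add (hL : PicF.IsInvertible L) {s t : Γ(L, ⊤)} (hs : IsAffineOpen (loc s))
    (ht : IsAffineOpen (loc t)) : IsAffineOpen (loc (s + t)) := by
  obtain ⟨p, hp, hps⟩ := Amp.exists_ratio hL (M1.secHom (s + t)) (M1.secHom s)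
  obtain ⟨q, hq, hqt⟩ := Amp.exists_ratio hL (M1.secHom (s + t)) (M1.secHom t)
  have he := Amp.isGenerator_genLocus hL (M1.secHom (s + t))
  simp only [Amp.gval_secHom] at hp hq he
  have h1 : p + q = 1 := by
    refine (he _ le_rfl).1 ?_
    show (p + q) • M2.res L le_rfl (M2.res L le_top (s + t)) = (1 : Γ(X, _)) • M2.res L le_rfl (M2.res L le_top (s + t))
    rw [Amp.res_self, add_smul, hp, hq, one_smul]
    exact (map_add (L.presheaf.map (homOfLE le_top).op).hom s t).symm
  refine isAffineOpen_of_isAffineOpen_basicOpen _ {p, q} ((Ideal.eq_top_iff_one _).2 ?_) ?_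
  · rw [← h1]
    exact Ideal.add_mem _ (Ideal.subset_span (Set.mem_insert _ _))
      (Ideal.subset_span (Set.mem_insert_of_mem _ rfl))
  · rintro i (rfl | rfl)
    · rw [← hps, inf_comm]
      exact Amp.isAffineOpen_inf_genLocus hL _ hs
    · rw [← hqt, inf_comm]
      exact Amp.isAffineOpen_inf_genLocus hL _ ht

theorem loc_zero (hL : PicF.IsInvertible L) : loc (0 : Γ(L, ⊤)) = ⊥ := by
  refine le_antisymm (fun x hx => ?_) bot_le
  rw [mem_loc_iff hL, show gm L x (U := ⊤) trivial (0 : Γ(L, ⊤)) = 0 from map_zero _] at hx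
  exact absurd (hx.1 (show (0 : X.presheaf.stalk x) • (0 : (L.presheaf.stalk x : Type u)) =
    (1 : X.presheaf.stalk x) • 0 by rw [smul_zero, smul_zero])) zero_ne_one

theorem isAffineOpen_loc_smul (hL : PicF.IsInvertible L) {t : Γ(L, ⊤)} (c : Γ(X, ⊤))
    (ht : IsAffineOpen (loc t)) : IsAffineOpen (loc (c • t)) := by
  have h : loc (c • t) = loc t ⊓ X.basicOpen c := Opens.ext (Set.ext fun x => by
    rw [SetLike.mem_coe, SetLike.mem_coe, mem_loc_iff hL, Amp.gm_smul, Amp.gen_smul_iff hL, Opens.mem_inf,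
      mem_loc_iff hL, Scheme.mem_basicOpen X c x trivial]
    exact and_comm)
  rw [h]
  exact (ht.basicOpen (X.presheaf.map (homOfLE le_top).op c)) |> fun h' => by
    rwa [Scheme.basicOpen_res] at h'

/-- Linear combinations of sections with affine loci have affine loci. -/
theorem isAffineOpen_loc_sum (hL : PicF.IsInvertible L) {J : Type*} (u : Finset J) (c : J → Γ(X, ⊤))
    (t : J → Γ(L, ⊤)) (ht : ∀ i ∈ u, IsAffineOpen (loc (t i))) : IsAffineOpen (loc (∑ i ∈ u, c i • t i)) := by
  classical
  induction u using Finset.induction with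
  | empty => rw [Finset.sum_empty, loc_zero hL]; exact isAffineOpen_bot X
  | insert i u hi ih =>
    rw [Finset.sum_insert hi]
    exact isAffineOpen_loc_add hL (isAffineOpen_loc_smul hL _ (ht i (Finset.mem_insert_self _ _)))
      (ih fun j hj => ht j (Finset.mem_insert_of_mem hj))

end Groth.Agent.Sumihiro14
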