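import Groth.Agent.Lib.Sumihiro14.Slice
import Groth.Agent.Lib.Sumihiro14.Loci
import Groth.Agent.Lib.CubeField.ProdSections
import Groth.Agent.Lib.DiagGL.Points
import Mathlib.LinearAlgebra.TensorProduct.Basis
import Groth.Agent.Lib.NRQ21.Restrict
import Mathlib.LinearAlgebra.Dimension.Free

/-!
# The translates of a section span a finite-dimensional space, regularly in the group element
-/

set_option autoImplicit false
set_option linter.style.haveILetI false
set_option linter.unusedSectionVars false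
set_option backward.isDefEq.respectTransparency false
set_option backward.isDefEq.respectTransparency.types false
universe u

open CategoryTheory CategoryTheory.Limits MonoidalCategory CartesianMonoidalCategory MonObj AlgebraicGeometry
open Topology TopologicalSpace TensorProduct

noncomputable section

namespace Groth.Agent.Sumihiro14

open OrbitTop19 (tr)
open Groth.Agent.Amp (Gen gm)
open CubeField (Fn toΓ)
open DiagGL (alg)

variable {k : Type u} [Field k] {G X : Over (Spec (CommRingCat.of k))}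

/-- The value of a function at a rational point. -/
def vl (g : 𝟙_ (Over (Spec (CommRingCat.of k))) ⟶ G) (b : Γ(G.left, ⊤)) : k :=
  (Scheme.ΓSpecIso (CommRingCat.of k)).hom (g.left.appTop b)

theorem vl_add (g : 𝟙_ (Over (Spec (CommRingCat.of k))) ⟶ G) (b b' : Γ(G.left, ⊤)) :
    vl g (b + b') = vl g b + vl g b' :=
  map_add ((Scheme.ΓSpecIso (CommRingCat.of k)).hom.hom.comp g.left.appTop.hom) b b'

theorem vl_mul (g : 𝟙_ (Over (Spec (CommRingCat.of k))) ⟶ G) (b b' : Γ(G.left, ⊤)) :
    vl g (b * b') = vl g b * vl g b' :=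
  map_mul ((Scheme.ΓSpecIso (CommRingCat.of k)).hom.hom.comp g.left.appTop.hom) b b'

theorem appTop_eq_alg (g : 𝟙_ (Over (Spec (CommRingCat.of k))) ⟶ G) (b : Γ(G.left, ⊤)) :
    (toUnit X ≫ g).left.appTop b = alg X (vl g b) := by
  rw [Over.comp_left, Scheme.Hom.comp_appTop]
  show (toUnit X).left.appTop (g.left.appTop b) =
    X.hom.appTop ((Scheme.ΓSpecIso (CommRingCat.of k)).inv ((Scheme.ΓSpecIso (CommRingCat.of k)).hom (g.left.appTop b)))
  erw [Iso.hom_inv_id_apply]
  rfl

theorem vl_alg (g : 𝟙_ (Over (Spec (CommRingCat.of k))) ⟶ G) (r : k) : vl g (alg G r) = r := by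
  have h : g.left.appTop (G.hom.appTop ((Scheme.ΓSpecIso (CommRingCat.of k)).inv r)) =
      (Scheme.ΓSpecIso (CommRingCat.of k)).inv r := by
    rw [← CommRingCat.comp_apply, ← Scheme.Hom.comp_appTop, Over.w g]
    show (Scheme.Hom.appTop (𝟙 (Spec (CommRingCat.of k)))) _ = _
    rw [Scheme.Hom.id_appTop]
    rfl
  show (Scheme.ΓSpecIso (CommRingCat.of k)).hom (g.left.appTop (G.hom.appTop _)) = r
  erw [h]
  exact (Scheme.ΓSpecIso (CommRingCat.of k)).inv_hom_id_apply r

/-- Functions with values at rational points, linearly. -/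
def vlL (g : 𝟙_ (Over (Spec (CommRingCat.of k))) ⟶ G) : Fn G.hom ⊤ →ₗ[k] k where
  toFun b := vl g b
  map_add' := vl_add g
  map_smul' r b := by
    show vl g ((show Γ(G.left, ⊤) from RigidRel.ringMap G.hom ⊤ r) * toΓ b) = r * vl g b
    rw [vl_mul]
    congr 1
    refine Eq.trans ?_ (vl_alg g r)
    congr 1
    show ((Scheme.ΓSpecIso (CommRingCat.of k)).inv ≫ G.hom.appLE ⊤ ⊤ _) r =
      ((Scheme.ΓSpecIso (CommRingCat.of k)).inv ≫ G.hom.appTop) r
    rw [Scheme.Hom.appTop, Scheme.Hom.app_eq_appLE]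
    rfl

variable [IsAlgClosed k]

theorem eq_zero_of_vl [IsReduced G.left] [LocallyOfFiniteType G.hom] (b : Γ(G.left, ⊤))
    (h : ∀ g : 𝟙_ (Over (Spec (CommRingCat.of k))) ⟶ G, vl g b = 0) : b = 0 := by
  rw [← basicOpen_eq_bot_iff]
  haveI : JacobsonSpace G.left := LocallyOfFiniteType.jacobsonSpace G.hom
  refine le_antisymm (opens_le_of_closedPoints fun z hz hb => False.elim ?_) bot_le
  obtain ⟨p, rfl⟩ := OrbitTop19.exists_point G z hz
  have h1 : p.left.appTop b = 0 := by
    have := congrArg (Scheme.ΓSpecIso (CommRingCat.of k)).inv (h p)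
    simp only [vl, Iso.hom_inv_id_apply, map_zero] at this
    exact this
  have h2 : IsLocalRing.closedPoint k ∈ p.left ⁻¹ᵁ G.left.basicOpen b := hb
  rw [Scheme.preimage_basicOpen_top] at h2
  erw [h1] at h2
  rw [Scheme.basicOpen_zero] at h2
  exact h2

theorem span_vl_eq_top [IsReduced G.left] [LocallyOfFiniteType G.hom] {J : Type*} [Finite J] (b : J → Fn G.hom ⊤)
    (hb : LinearIndependent k b) :
    Submodule.span k (Set.range fun (g : 𝟙_ (Over (Spec (CommRingCat.of k))) ⟶ G) (j : J) => vlL g (b j)) = ⊤ := by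
  haveI := Fintype.ofFinite J
  classical
  by_contra hne
  obtain ⟨φ, hφ, hker⟩ := Submodule.exists_dual_map_eq_bot_of_lt_top (lt_top_iff_ne_top.2 hne) inferInstance
  have hv : ∀ g, ∑ j, φ (Pi.single j 1) * vlL g (b j) = 0 := fun g => by
    have h1 : φ (fun j => vlL g (b j)) = 0 := by
      have : φ (fun j => vlL g (b j)) ∈ Submodule.map φ (Submodule.span k
          (Set.range fun (g : 𝟙_ (Over (Spec (CommRingCat.of k))) ⟶ G) (j : J) => vlL g (b j))) :=
        Submodule.mem_map_of_mem (Submodule.subset_span ⟨g, rfl⟩)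
      rw [hker] at this
      exact (Submodule.mem_bot k).1 this
    rw [← h1]
    conv_rhs => rw [pi_eq_sum_univ' (fun j => vlL g (b j))]
    rw [map_sum]
    refine Finset.sum_congr rfl fun j _ => ?_
    rw [map_smul, smul_eq_mul, mul_comm]
  have h0 : ∑ j, φ (Pi.single j 1) • b j = 0 := by
    refine eq_zero_of_vl (G := G) _ fun g => ?_
    have : vlL g (∑ j, φ (Pi.single j 1) • b j) = 0 := by
      rw [map_sum, ← hv g]
      exact Finset.sum_congr rfl fun j _ => by rw [map_smul, smul_eq_mul]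
    exact this
  have hc := Fintype.linearIndependent_iff.1 hb _ h0
  refine hφ (LinearMap.ext fun v => ?_)
  rw [pi_eq_sum_univ' v, map_sum, LinearMap.zero_apply]
  exact Finset.sum_eq_zero fun j _ => by rw [map_smul, hc j, smul_zero]

/-- On an integral scheme sections of invertible modules are determined on any nonempty open. -/
theorem mres_injective_of_integral {Y : Scheme.{u}} [IsIntegral Y] {M : Y.Modules} (hM : PicF.IsInvertible M)
    (W : Y.Opens) (hW : (W : Set Y).Nonempty) :
    Function.Injective (M1.mres M (le_top : W ≤ ⊤)) := by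
  intro s t hst
  refine Amp.eq_of_gm fun x _ => ?_
  obtain ⟨U, e, hxU, -, -, he⟩ := Amp.exists_isGenerator hM (V := ⊤) (x := x) trivial
  obtain ⟨c, hc⟩ := (he U le_rfl).2 (M1.mres M (le_top : U ≤ ⊤) s)
  obtain ⟨d, hd⟩ := (he U le_rfl).2 (M1.mres M (le_top : U ≤ ⊤) t)
  simp only [Amp.res_self] at hc hd
  haveI : Nonempty (W ⊓ U : Y.Opens) := by
    obtain ⟨z, hz⟩ := nonempty_preirreducible_inter W.isOpen U.isOpen hW ⟨x, hxU⟩
    exact ⟨⟨z, hz⟩⟩
  haveI : Nonempty U := ⟨⟨x, hxU⟩⟩
  have hcd : c = d := by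
    refine map_injective_of_isIntegral Y (homOfLE (inf_le_right : W ⊓ U ≤ U)) ?_
    refine (he (W ⊓ U) inf_le_right).1 ?_
    show Y.presheaf.map (homOfLE inf_le_right).op c • M1.mres M _ e =
      Y.presheaf.map (homOfLE inf_le_right).op d • M1.mres M _ e
    rw [← M1.mres_smul, ← M1.mres_smul, hc, hd, M1.mres_mres, M1.mres_mres,
      ← M1.mres_mres M (le_top : W ≤ ⊤) (inf_le_left : W ⊓ U ≤ W) s, hst, M1.mres_mres]
  rw [← Amp.gm_res (le_top : U ≤ ⊤) hxU s, ← Amp.gm_res (le_top : U ≤ ⊤) hxU t]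
  exact congrArg _ (hc.symm.trans ((congrArg (fun v => v • e) hcd).trans hd))

theorem slice_app_fst (g : 𝟙_ (Over (Spec (CommRingCat.of k))) ⟶ G) (b : Γ(G.left, ⊤)) {W : X.left.Opens}
    (e : W ≤ (slice g).left ⁻¹ᵁ ((fst G X).left ⁻¹ᵁ ⊤)) :
    (slice g).left.appLE ((fst G X).left ⁻¹ᵁ ⊤) W e ((fst G X).left.app ⊤ b) =
      M1.ores (le_top : W ≤ ⊤) (alg X (vl g b)) := by
  rw [← appTop_eq_alg (X := X) g b]
  rw [← CommRingCat.comp_apply, Scheme.Hom.app_eq_appLE, Scheme.Hom.appLE_comp_appLE]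
  show _ = X.left.presheaf.map _ ((toUnit X ≫ g).left.app ⊤ b)
  rw [← CommRingCat.comp_apply, Scheme.Hom.app_eq_appLE, Scheme.Hom.appLE_map]
  exact NRQ21.appLE_hom_congr (congrArg CommaMorphism.left (lift_fst (toUnit X ≫ g) (𝟙 X))) _ _ _

theorem slice_app_snd (g : 𝟙_ (Over (Spec (CommRingCat.of k))) ⟶ G) {W₁ W : X.left.Opens} (z : Γ(X.left, W₁))
    (e : W ≤ (slice g).left ⁻¹ᵁ ((snd G X).left ⁻¹ᵁ W₁)) (hW : W ≤ W₁) :
    (slice g).left.appLE ((snd G X).left ⁻¹ᵁ W₁) W e ((snd G X).left.app W₁ z) = M1.ores hW z := by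
  rw [← CommRingCat.comp_apply, Scheme.Hom.app_eq_appLE, Scheme.Hom.appLE_comp_appLE]
  exact NRQ21.appLE_hom_congr (slice_snd g) _ hW _

variable [GrpObj G] [IsAffine G.left] [IsReduced G.left] [LocallyOfFiniteType G.hom] [IsIntegral X.left]
  [IsSeparated X.hom] (a : AlgGrp.Action G X) {L : X.left.Modules}
  (θ : (Scheme.Modules.pullback a.act.left).obj L ≅ (Scheme.Modules.pullback (snd G X).left).obj L)

/-- The translates of a section lie in a finite-dimensional space, with regular coefficients. -/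
theorem exists_expansion (hL : PicF.IsInvertible L) (s : Γ(L, ⊤)) :
    ∃ (J : Type u) (_ : Fintype J) (b : J → Fn G.hom ⊤) (t : J → Γ(L, ⊤)), LinearIndependent k b ∧
      (∀ g, trOp g a θ s = ∑ j, alg X (vlL g (b j)) • t j) ∧
      ∀ j, ∃ (u : Finset (𝟙_ (Over (Spec (CommRingCat.of k))) ⟶ G))
        (c : (𝟙_ (Over (Spec (CommRingCat.of k))) ⟶ G) → k), t j = ∑ g ∈ u, alg X (c g) • trOp g a θ s := by
  classical
  obtain ⟨W, e, hηW, -, hW, he⟩ := Amp.exists_isGenerator hL (V := ⊤) (x := genericPoint X.left) trivial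
  let O := CubeField.box (snd G X).left (fst G X).left W ⊤
  let E := M1.mres ((Scheme.Modules.pullback (snd G X).left).obj L) (inf_le_left : O ≤ (snd G X).left ⁻¹ᵁ W)
    (M2.pullSec (snd G X).left L e)
  have hE : Twist.IsGen _ O E := Twist.isGen_of_stalk fun z hz => by
    have h := (Amp.gen_pullSec_iff (snd G X).left hL (y := z) (U := W) hz.1 e).2 (Amp.gen_of_isGenerator he hz.1)
    rw [Amp.Gen, ← Amp.gm_res (inf_le_left : O ≤ _) hz] at h
    exact h
  obtain ⟨f, hf⟩ := (hE O le_rfl).2 (M1.mres _ (le_top : O ≤ ⊤) (moved a θ s))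
  simp only [M1.mres_id] at hf
  have hsq := AlgGrpBasic19.isPullback_snd (G := G) (X := X)
  obtain ⟨z, rfl⟩ := (CubeField.bijective_tens X.hom G.hom (snd G X).left (fst G X).left hsq hW
    (isAffineOpen_top G.left)).2 f
  let ℬ := Module.Free.chooseBasis k (Fn G.hom ⊤)
  obtain ⟨C, rfl⟩ := TensorProduct.eq_repr_basis_left ℬ z
  let J := C.support
  let b : J → Fn G.hom ⊤ := fun j => ℬ j.1
  have hb : LinearIndependent k b := ℬ.linearIndependent.comp _ Subtype.val_injective
  let al : J → Γ(X.left, W) := fun j => toΓ (C j.1)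
  have hres : ∀ g, M1.mres L (le_top : W ≤ ⊤) (trOp g a θ s) =
      ∑ j : J, (M1.ores (le_top : W ≤ ⊤) (alg X (vlL g (b j))) * al j) • e := by
    intro g
    have hWO : W ≤ (slice g).left ⁻¹ᵁ O := fun y hy => by
      refine ⟨?_, trivial⟩
      show ((slice g).left ≫ (snd G X).left) y ∈ W
      rw [slice_snd]; exact hy
    have h := congrArg (fun t => M1.mres L hWO (sl g O t)) hf
    simp only [sl_smul, sl_mres, M1.mres_smul, M1.mres_mres] at h
    rw [trOp, M1.mres_mres]
    refine Eq.trans h.symm ?_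
    have hE' : M1.mres L hWO (sl g O E) = e := by
      rw [sl_mres, sl_pullSec, M1.mres_mres, M1.mres_mres, M1.mres_id]
    rw [hE', ← Finset.sum_smul]
    congr 1
    rw [Finsupp.sum, map_sum, map_sum, map_sum, ← Finset.sum_coe_sort]
    refine Finset.sum_congr rfl fun j _ => ?_
    rw [CubeField.tens_tmul, CubeField.mulBox, map_mul, map_mul]
    have hmap : ∀ {U : (G ⊗ X).left.Opens} (h : O ≤ U) (x : Γ((G ⊗ X).left, U)),
        (slice g).left.appLE O W hWO ((G ⊗ X).left.presheaf.map (homOfLE h).op x) =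
          (slice g).left.appLE U W (hWO.trans ((slice g).left.preimage_mono h)) x := fun h x => by
      rw [← CommRingCat.comp_apply, Scheme.Hom.map_appLE]
    have happ : ∀ x : Γ((G ⊗ X).left, O), M1.ores hWO ((slice g).left.app O x) = (slice g).left.appLE O W hWO x :=
      fun x => rfl
    simp only [happ]
    erw [hmap, hmap, slice_app_fst, slice_app_snd g _ _ le_rfl]
    refine congrArg₂ (· * ·) rfl ?_
    show X.left.presheaf.map (homOfLE le_rfl).op _ = _
    rw [show (homOfLE (le_refl W)).op = 𝟙 _ from rfl, X.left.presheaf.map_id]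
    rfl
  have hWne : (W : Set X.left).Nonempty := ⟨_, hηW⟩
  have hspan := span_vl_eq_top b hb
  have hsel : ∀ j : J, ∃ c : (𝟙_ (Over (Spec (CommRingCat.of k))) ⟶ G) →₀ k,
      (c.sum fun g r => r • fun j' : J => vlL g (b j')) = Pi.single j 1 := fun j =>
    Finsupp.mem_span_range_iff_exists_finsupp.1 (hspan.ge trivial)
  choose c hc using hsel
  let t : J → Γ(L, ⊤) := fun j => ∑ g ∈ (c j).support, alg X (c j g) • trOp g a θ s
  have ht : ∀ j, M1.mres L (le_top : W ≤ ⊤) (t j) = al j • e := by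
    intro j
    simp only [t, map_sum, M1.mres_smul, hres, Finset.smul_sum]
    rw [Finset.sum_comm, Finset.sum_eq_single j]
    · simp only [smul_smul, ← _root_.mul_assoc, ← map_mul, ← Finset.sum_smul, ← Finset.sum_mul, ← map_sum]
      have h := congrFun (hc j) j
      simp only [Finsupp.sum, Finset.sum_apply, Pi.smul_apply, smul_eq_mul, Pi.single_eq_same] at h
      rw [h, map_one, map_one, _root_.one_mul]
    · intro j' _ hj'
      simp only [smul_smul, ← _root_.mul_assoc, ← map_mul, ← Finset.sum_smul, ← Finset.sum_mul, ← map_sum]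
      have h := congrFun (hc j) j'
      simp only [Finsupp.sum, Finset.sum_apply, Pi.smul_apply, smul_eq_mul, Pi.single_eq_of_ne hj'] at h
      rw [h, map_zero, map_zero, zero_mul, zero_smul]
    · exact fun h => absurd (Finset.mem_univ j) h
  refine ⟨J, inferInstance, b, t, hb, fun g => mres_injective_of_integral hL W hWne ?_,
    fun j => ⟨(c j).support, c j, rfl⟩⟩
  rw [hres, map_sum]
  exact Finset.sum_congr rfl fun j _ => by rw [M1.mres_smul, ht, smul_smul]

end Groth.Agent.Sumihiro14
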