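import Groth.Agent.Lib.Hartogs14.Normal
import Groth.Agent.Lib.Ample18.Separated
import Groth.Agent.Lib.Twist.Triv
import Groth.Agent.Lib.NRQ21.Restrict
import Groth.Agent.S1573

/-!
# Pushing forward an invertible module along an open with small complement
-/

set_option autoImplicit false
set_option linter.style.haveILetI false
set_option backward.isDefEq.respectTransparency false
set_option backward.isDefEq.respectTransparency.types false
universe u

open CategoryTheory CategoryTheory.Limits AlgebraicGeometry Opposite TopologicalSpace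

namespace Groth.Agent.Sumihiro14

open Groth.Agent.M1

variable {X X₁ : Scheme.{u}} (j : X₁ ⟶ X) [IsOpenImmersion j]

theorem app_bijective (hRB : ParaF27.RB j.opensRange) (Z : X.Opens) : Function.Bijective (j.app Z) := by
  have h1 : j ⁻¹ᵁ Z = j ⁻¹ᵁ (Z ⊓ j.opensRange) :=
    Opens.ext (Set.ext fun z => ⟨fun hz => ⟨hz, z, rfl⟩, fun hz => hz.1⟩)
  have hb := NRQ21.appLE_bijective j (inf_le_right : Z ⊓ j.opensRange ≤ j.opensRange) h1
  have e : ⇑(j.app Z) = ⇑(j.appLE (Z ⊓ j.opensRange) (j ⁻¹ᵁ Z) h1.le) ∘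
      ⇑(X.presheaf.map (homOfLE (inf_le_left : Z ⊓ j.opensRange ≤ Z)).op) := by
    funext r
    rw [Function.comp_apply, ← ConcreteCategory.comp_apply, Scheme.Hom.map_appLE, Scheme.Hom.app_eq_appLE]
  rw [e]
  exact hb.comp (hRB Z)

theorem smul_pushforward (hRB : ParaF27.RB j.opensRange) (N : X₁.Modules) (t : Γ(N, ⊤)) (Z : X.Opens) :
    Function.Bijective (fun r : Γ(X, Z) =>
      r • mres ((Scheme.Modules.pushforward j).obj N) (le_top : Z ≤ ⊤) (show Γ(N, j ⁻¹ᵁ ⊤) from t)) ↔
    Function.Bijective (fun r : Γ(X₁, j ⁻¹ᵁ Z) => r • mres N (le_top : j ⁻¹ᵁ Z ≤ ⊤) t) := by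
  have e : (fun r : Γ(X, Z) =>
      r • mres ((Scheme.Modules.pushforward j).obj N) (le_top : Z ≤ ⊤) (show Γ(N, j ⁻¹ᵁ ⊤) from t)) =
      (fun r : Γ(X₁, j ⁻¹ᵁ Z) => r • mres N (le_top : j ⁻¹ᵁ Z ≤ ⊤) t) ∘ (j.app Z) := rfl
  rw [e]
  exact Function.Bijective.of_comp_iff _ (app_bijective j hRB Z)

theorem preimage_image (W : X₁.Opens) : j ⁻¹ᵁ (j ''ᵁ W) = W := Scheme.Hom.preimage_image_eq j W

/-- An open with affine inclusion equals any larger open agreeing with it off codimension two. -/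
theorem eq_of_codim_two [IsNoetherian X] (V O : X.Opens) [IsAffineHom V.ι] (hV : Dense (V : Set X)) (hle : V ≤ O)
    (X₁ : X.Opens) (hdim : ∀ x : X, x ∉ X₁ → 2 ≤ ringKrullDim (X.presheaf.stalk x))
    (hmeet : O ⊓ X₁ ≤ V) : O = V := by
  refine le_antisymm (fun x hx => ?_) hle
  by_contra hxV
  let T := (V : Set X)ᶜ
  have hT : IsClosed T := V.isOpen.isClosed_compl
  haveI : QuasiSober T := hT.isClosedEmbedding_subtypeVal.quasiSober
  let y : T := ⟨x, hxV⟩
  have hC := isIrreducible_irreducibleComponent (x := y)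
  let ξ : T := hC.genericPoint
  have hξ : closure ({ξ} : Set T) = irreducibleComponent y := by
    rw [hC.isGenericPoint_genericPoint_closure.def]
    exact isClosed_irreducibleComponent.closure_eq
  have hξy : (ξ : X) ⤳ x := by
    have : ξ ⤳ y := specializes_iff_mem_closure.2 (hξ ▸ mem_irreducibleComponent)
    exact this.map continuous_subtype_val
  obtain ⟨h1, h2⟩ := S1573.result X V ξ ξ.2 fun z hz hzξ => by
    let z' : T := ⟨z, hz⟩
    have h : z' ⤳ ξ := subtype_specializes_iff _ _ |>.2 hzξ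
    have hsub : irreducibleComponent y ⊆ closure {z'} := by
      rw [← hξ]
      exact h.closure_subset
    have he : irreducibleComponent y = closure {z'} :=
      ((irreducibleComponent_mem_irreducibleComponents y).eq_of_le isIrreducible_singleton.closure hsub)
    have : ξ ⤳ z' := specializes_iff_mem_closure.2 (by rw [hξ, he]; exact subset_closure rfl)
    exact congrArg Subtype.val ((h.antisymm this).eq : z' = ξ)
  have hξ1 : (ξ : X) ∈ X₁ := by
    by_contra hn
    have h := (hdim ξ hn).trans_eq (h2 hV)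
    exact absurd h (by decide)
  exact ξ.2 (hmeet ⟨hξy.mem_open O.isOpen hx, hξ1⟩)

variable [IsNoetherian X] [IrreducibleSpace X]

/-- Pushforward of an invertible module having sections which generate on traces of affine opens. -/
theorem isAmple_pushforward (hdim : ∀ x : X, x ∉ j.opensRange → 2 ≤ ringKrullDim (X.presheaf.stalk x))
    (hRB : ParaF27.RB j.opensRange) {N : X₁.Modules} (hN : PicF.IsInvertible N)
    {ι : Type*} (V : ι → X.Opens) (hV : ∀ i, IsAffineOpen (V i)) [∀ i, IsAffineHom (V i).ι]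
    (hcov : ∀ x : X, ∃ i, x ∈ V i)
    (hs : ∀ i, ∃ s : Coh.structureModule X₁ ⟶ N, CohB1.genLocus N s = j ⁻¹ᵁ V i) :
    CohB1.IsAmple ((Scheme.Modules.pushforward j).obj N) := by
  let L := (Scheme.Modules.pushforward j).obj N
  choose s hs using hs
  let t : ι → Γ(L, ⊤) := fun i => (show Γ(N, j ⁻¹ᵁ ⊤) from Amp.gval (s i))
  have hgen : ∀ i, Twist.IsGen L (V i) (mres L le_top (t i)) := fun i Z hZ => by
    simp only [mres_mres]
    refine (smul_pushforward j hRB N (Amp.gval (s i)) Z).2 ?_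
    have hle : j ⁻¹ᵁ Z ≤ CohB1.genLocus N (s i) := (hs i).symm ▸ Scheme.Hom.preimage_mono j hZ
    have h := Amp.isGenerator_genLocus hN (s i) (j ⁻¹ᵁ Z) hle
    simp only [M2.res_res] at h
    exact h
  have hL : PicF.IsInvertible L := Twist.isInvertible_of_local L fun x => by
    obtain ⟨i, hi⟩ := hcov x
    exact ⟨V i, hi, Twist.nonempty_restrict_iso L (V i) _ (hgen i)⟩
  refine Amp.isAmple_iff.2 ⟨hL, inferInstance, fun x => ?_⟩
  obtain ⟨i, hi⟩ := hcov x
  have hloc : CohB1.genLocus L (secHom (t i)) = V i := by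
    refine eq_of_codim_two (V i) _ ((V i).isOpen.dense ⟨x, hi⟩) (Twist.le_genLocus ?_) j.opensRange hdim ?_
    · rw [Twist.isIso_restrict_secHom_iff]
      intro Z hZ
      have := hgen i Z hZ
      simp only [mres_mres] at this
      exact this
    · rintro _ ⟨hy, y, rfl⟩
      obtain ⟨U', hyU', hU'⟩ := Twist.exists_of_mem_genLocus hy
      rw [Twist.isIso_restrict_secHom_iff] at hU'
      show y ∈ j ⁻¹ᵁ V i
      rw [← hs i]
      refine Twist.le_genLocus (U := j ⁻¹ᵁ U') ?_ hyU'
      rw [← Amp.secHom_gval (s i), Twist.isIso_restrict_secHom_iff]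
      intro W hW
      obtain ⟨Z, hZU, rfl⟩ : ∃ Z, Z ≤ U' ∧ j ⁻¹ᵁ Z = W :=
        ⟨j ''ᵁ W, by rintro _ ⟨w, hw, rfl⟩; exact hW hw, preimage_image j W⟩
      exact (smul_pushforward j hRB N (Amp.gval (s i)) Z).1 (hU' Z hZU)
  exact ⟨0, V i, hloc ▸ Amp.hasSec_of_iso (M2.tensorPowOne L).symm (secHom (t i)), hi, hV i⟩

end Groth.Agent.Sumihiro14
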