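import Groth.Agent.Lib.Sumihiro14.Open
import Groth.Agent.Lib.Sumihiro14.Cartier
import Groth.Agent.Lib.Sumihiro14.Push
import Groth.Agent.Lib.RatGrp14.Scheme
import Groth.Agent.Lib.FibDepth5.GeomRk

/-!
# An ample module on a normal variety covered by the translates of an affine open
-/

set_option autoImplicit false
set_option linter.style.haveILetI false
set_option backward.isDefEq.respectTransparency false
set_option backward.isDefEq.respectTransparency.types false
universe u

open CategoryTheory CategoryTheory.Limits MonoidalCategory CartesianMonoidalCategory MonObj AlgebraicGeometry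
open Topology TopologicalSpace

namespace Groth.Agent.Sumihiro14

open OrbitTop19 (tr)

variable {k : Type u} [Field k] {G X : Over (Spec (CommRingCat.of k))} [GrpObj G]

theorem isNormalScheme_open (U : X.left.Opens) (hX : Pi1.IsNormalScheme X.left) :
    Pi1.IsNormalScheme (U : Scheme.{u}) := fun x => by
  haveI := (hX x.1).1
  haveI := (hX x.1).2
  let e := (U.stalkIso x).commRingCatIsoToRingEquiv
  haveI : IsDomain ((U : Scheme.{u}).presheaf.stalk x) := MulEquiv.isDomain (X.left.presheaf.stalk x.1) e.toMulEquiv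
  exact ⟨inferInstance, IsIntegrallyClosed.of_equiv e.symm⟩

theorem isAffineHom_ι [IsSeparated X.hom] (U : X.left.Opens) (hU : IsAffineOpen U) : IsAffineHom U.ι := by
  haveI : IsAffine (U : Scheme.{u}) := hU
  haveI : IsAffineHom (U.ι ≫ X.hom) := inferInstance
  exact IsAffineHom.of_comp U.ι X.hom

variable [IsAlgClosed k] [IsAffine G.left] [Smooth G.hom] [ConnectedSpace ↥G.left]
  [IsSeparated X.hom] [LocallyOfFiniteType X.hom] [QuasiCompact X.hom] [IsIntegral X.left]

/-- A translate of an invertible module on a normal variety is isomorphic to it. -/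
theorem nonempty_pullback_tr_iso (hX : Pi1.IsNormalScheme X.left) (a : AlgGrp.Action G X)
    (g : 𝟙_ (Over (Spec (CommRingCat.of k))) ⟶ G) {N : X.left.Modules} (hN : PicF.IsInvertible N) :
    Nonempty ((Scheme.Modules.pullback (tr a g).left).obj N ≅ N) := by
  letI : PicGrp.Law G.left := M2.law _
  letI : PicGrp.Law X.left := M2.law _
  letI : PicGrp.Law (G ⊗ X).left := M2.law _
  obtain ⟨A, hA⟩ := RatGrp14.exists_pullHom_act_eq hX a (M2.pullMul _) (M2.pullMul _) (M2.pullMul _)
    (PicGrp.cls N hN)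
  have h := congrArg (PicGrp.pullHom (lift (toUnit X ≫ g) (𝟙 X)).left (M2.pullMul _)) hA
  rw [map_mul, RatGrp14.pullHom_comp, RatGrp14.pullHom_comp, RatGrp14.pullHom_comp, lift_fst] at h
  rw [RatGrp14.pullHom_const, _root_.one_mul, RatGrp14.pullHom_id _ (lift_snd _ _)] at h
  rw [PicGrp.pullHom_cls] at h
  exact (PicGrp.cls_eq_cls_iff _ hN).1 h

/-- Sections move under translations. -/
theorem exists_section_tr (hX : Pi1.IsNormalScheme X.left) (a : AlgGrp.Action G X)
    (g : 𝟙_ (Over (Spec (CommRingCat.of k))) ⟶ G) {N : X.left.Modules} (hN : PicF.IsInvertible N)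
    (s : Coh.structureModule X.left ⟶ N) :
    ∃ s' : Coh.structureModule X.left ⟶ N, CohB1.genLocus N s' = (tr a g).left ⁻¹ᵁ CohB1.genLocus N s := by
  obtain ⟨e⟩ := nonempty_pullback_tr_iso hX a g hN
  let σ := (PicLoc.pullbackStructureIso (tr a g).left).symm
  refine ⟨(σ.hom ≫ (Scheme.Modules.pullback (tr a g).left).map s) ≫ e.hom, ?_⟩
  rw [Twist.genLocus_comp_iso, Amp.genLocus_pullback _ hN]

omit [IsAlgClosed k] [IsAffine G.left] [Smooth G.hom] [ConnectedSpace ↥G.left] [IsSeparated X.hom]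
  [LocallyOfFiniteType X.hom] [QuasiCompact X.hom] [IsIntegral X.left] in
theorem tr_left_comp {Y : Over (Spec (CommRingCat.of k))} (b : AlgGrp.Action G Y) (a : AlgGrp.Action G X)
    (j : Y ⟶ X) (h : b.act ≫ j = (G ◁ j) ≫ a.act) (g : 𝟙_ (Over (Spec (CommRingCat.of k))) ⟶ G) :
    (tr b g).left ≫ j.left = j.left ≫ (tr a g).left := by
  rw [← Over.comp_left, ← Over.comp_left, OrbitTop19.tr_equivariant h.symm g]

/-- A normal variety covered by the translates of an affine open under a connected linear group has an ample module. -/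
theorem exists_isAmple (hX : Pi1.IsNormalScheme X.left) (a : AlgGrp.Action G X) (U₀ : X.left.Opens)
    (hU₀ : IsAffineOpen U₀) (hne : (U₀ : Set X.left).Nonempty) (hcov : saturation a U₀ = ⊤) :
    ∃ L : X.left.Modules, CohB1.IsAmple L := by
  haveI : IsLocallyNoetherian X.left := LocallyOfFiniteType.isLocallyNoetherian X.hom
  haveI : CompactSpace X.left := QuasiCompact.compactSpace_of_compactSpace X.hom
  haveI : IsNoetherian X.left := {}
  let S := X.hom.smoothLocus
  have hη : genericPoint X.left ∈ S := Scheme.Hom.genericPoint_mem_smoothLocus_of_perfectField X.hom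
  haveI : Nonempty (S : Scheme.{u}) := ⟨⟨_, hη⟩⟩
  haveI : IsIntegral (S : Scheme.{u}) := isIntegral_of_isOpenImmersion S.ι
  obtain ⟨a₁, ha₁⟩ := GITSS15.exists_restrict a S (stable_smoothLocus a)
  let X₁ : Over (Spec (CommRingCat.of k)) := Over.mk (S.ι ≫ X.hom)
  haveI : Smooth X₁.hom := by
    haveI : LocallyOfFinitePresentation X₁.hom := inferInstanceAs (LocallyOfFinitePresentation (S.ι ≫ X.hom))
    rw [← Scheme.Hom.smoothLocus_eq_top_iff (f := X₁.hom)]
    refine (Scheme.Hom.preimage_smoothLocus_eq S.ι X.hom).symm.trans ?_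
    exact top_le_iff.1 fun x _ => x.2
  haveI : QuasiCompact X₁.hom := inferInstanceAs (QuasiCompact (S.ι ≫ X.hom))
  haveI : IsSeparated X₁.hom := inferInstanceAs (IsSeparated (S.ι ≫ X.hom))
  haveI : LocallyOfFiniteType X₁.hom := inferInstanceAs (LocallyOfFiniteType (S.ι ≫ X.hom))
  haveI : IsIntegral X₁.left := inferInstanceAs (IsIntegral (S : Scheme.{u}))
  let V₁ : (S : Scheme.{u}).Opens := S.ι ⁻¹ᵁ U₀
  haveI := isAffineHom_ι U₀ hU₀
  haveI : IsAffineHom V₁.ι := MorphismProperty.of_isPullback (isPullback_morphismRestrict S.ι U₀) inferInstance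
  have hd : Dense (V₁ : Set (S : Scheme.{u})) := V₁.isOpen.dense
    ⟨⟨_, hη⟩, ((genericPoint_spec X.left).mem_open_set_iff U₀.isOpen).2 ⟨hne.choose, trivial, hne.choose_spec⟩⟩
  obtain ⟨N, hN, s, hs⟩ := exists_section_compl X₁.hom V₁ hd
  have hsec : ∀ g, ∃ s' : Coh.structureModule (S : Scheme.{u}) ⟶ N,
      CohB1.genLocus N s' = S.ι ⁻¹ᵁ ((tr a g).left ⁻¹ᵁ U₀) := fun g => by
    obtain ⟨s', hs'⟩ := exists_section_tr (X := X₁) (isNormalScheme_open S hX) a₁ g hN s
    refine ⟨s', ?_⟩
    rw [hs', hs]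
    have he := tr_left_comp (X := X) (Y := X₁) a₁ a (Over.homMk S.ι rfl) ha₁ g
    exact congrArg (fun f : (S : Scheme.{u}) ⟶ X.left => f ⁻¹ᵁ U₀) he
  have haff : ∀ g, IsAffineOpen ((tr a g).left ⁻¹ᵁ U₀) := fun g => by
    haveI : IsIso (tr a g).left :=
      inferInstanceAs (IsIso ((Over.forget _).mapIso (OrbitTop19.trIso a g)).hom)
    exact hU₀.preimage_of_isIso _
  haveI := fun g => isAffineHom_ι _ (haff g)
  refine ⟨_, isAmple_pushforward S.ι (fun x hx => ?_) (Hartogs14.rb_of_normal hX _ fun x hx => ?_) hN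
    (fun g => (tr a g).left ⁻¹ᵁ U₀) haff (fun x => (mem_saturation a).1 (hcov ▸ trivial)) hsec⟩
  all_goals
    rw [Scheme.Opens.opensRange_ι] at hx
    exact two_le_dim_of_not_mem_smoothLocus hX x hx

end Groth.Agent.Sumihiro14
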