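import Groth.Agent.Lib.Sumihiro14.Open
import Groth.Agent.Lib.ModLimH13.Sections
import Groth.Agent.Lib.VeryAmple11.TsecRules
import Groth.Agent.Lib.ThetaGrp19.Scalar

/-!
# Translation operators on sections of a module with isomorphic pullbacks along action and projection
-/

set_option autoImplicit false
set_option linter.style.haveILetI false
set_option linter.unusedSectionVars false
set_option backward.isDefEq.respectTransparency false
set_option backward.isDefEq.respectTransparency.types false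
universe u

open CategoryTheory CategoryTheory.Limits MonoidalCategory CartesianMonoidalCategory MonObj AlgebraicGeometry
open Topology TopologicalSpace

noncomputable section

namespace Groth.Agent.Sumihiro14

open OrbitTop19 (tr)
open Groth.Agent.Amp (Gen gm)
open Groth.Agent.ModLimH13 (trans res')

variable {k : Type u} [Field k] {G X : Over (Spec (CommRingCat.of k))}

/-- The slice at a point. -/
def slice (g : 𝟙_ (Over (Spec (CommRingCat.of k))) ⟶ G) : X ⟶ G ⊗ X := lift (toUnit X ≫ g) (𝟙 X)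

theorem slice_snd (g : 𝟙_ (Over (Spec (CommRingCat.of k))) ⟶ G) :
    (slice (X := X) g).left ≫ (snd G X).left = 𝟙 X.left := by
  rw [← Over.comp_left, slice, lift_snd, Over.id_left]

variable {L : X.left.Modules}

/-- Restriction of a section of the pullback along the projection to a slice. -/
def sl (g : 𝟙_ (Over (Spec (CommRingCat.of k))) ⟶ G) (O : (G ⊗ X).left.Opens)
    (t : Γ((Scheme.Modules.pullback (snd G X).left).obj L, O)) : Γ(L, (slice g).left ⁻¹ᵁ O) :=
  ((Scheme.Modules.pullbackId X.left).hom.app L).app _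
    (trans (slice g).left (snd G X).left L (slice_snd g) (le_refl ((slice g).left ⁻¹ᵁ O)) t)

variable (g : 𝟙_ (Over (Spec (CommRingCat.of k))) ⟶ G)

theorem sl_add {O : (G ⊗ X).left.Opens} (t t' : Γ((Scheme.Modules.pullback (snd G X).left).obj L, O)) :
    sl g O (t + t') = sl g O t + sl g O t' := by
  rw [sl, ModLimH13.trans_add, map_add]
  rfl

theorem sl_sum {O : (G ⊗ X).left.Opens} {J : Type*} (s : Finset J)
    (t : J → Γ((Scheme.Modules.pullback (snd G X).left).obj L, O)) :
    sl g O (∑ i ∈ s, t i) = ∑ i ∈ s, sl g O (t i) :=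
  map_sum (AddMonoidHom.mk' (sl g O) (sl_add g)) t s

theorem sl_smul {O : (G ⊗ X).left.Opens} (c : Γ((G ⊗ X).left, O))
    (t : Γ((Scheme.Modules.pullback (snd G X).left).obj L, O)) :
    sl g O (c • t) = (slice g).left.app O c • sl g O t := by
  rw [sl, ModLimH13.trans_smul, Scheme.Modules.Hom.app_smul, Scheme.Hom.app_eq_appLE]
  rfl

theorem sl_mres {O O' : (G ⊗ X).left.Opens} (h : O' ≤ O)
    (t : Γ((Scheme.Modules.pullback (snd G X).left).obj L, O)) :
    sl g O' (M1.mres _ h t) = M1.mres L ((slice g).left.preimage_mono h) (sl g O t) := by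
  rw [sl, sl, ModLimH13.trans_mres]
  refine Eq.trans ?_ (M1.app_mres ((Scheme.Modules.pullbackId X.left).hom.app L) ((slice g).left.preimage_mono h) _)
  rw [ModLimH13.mres_trans]

theorem sl_pullSec {W : X.left.Opens} (s : Γ(L, W)) :
    sl g _ (M2.pullSec (snd G X).left L s) = M1.mres L (by
      show (slice g).left ⁻¹ᵁ ((snd G X).left ⁻¹ᵁ W) ≤ W
      rw [← Scheme.Hom.comp_preimage, slice_snd, Scheme.Hom.id_preimage]) s := by
  have h := ModLimH13.trans_res' (slice g).left (snd G X).left L (slice_snd (X := X) g)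
    (le_refl ((slice g).left ⁻¹ᵁ ((snd G X).left ⁻¹ᵁ W))) le_rfl s
  rw [res', M1.mres_id] at h
  rw [sl, h, res', M1.app_mres]
  congr 1
  exact VA11.pullbackId_hom_pullSec L s

theorem gen_sl_iff (hL : PicF.IsInvertible L) {O : (G ⊗ X).left.Opens}
    (t : Γ((Scheme.Modules.pullback (snd G X).left).obj L, O)) {y : X.left} (hy : (slice g).left y ∈ O) :
    Gen (gm L y (U := (slice g).left ⁻¹ᵁ O) hy (sl g O t)) ↔
      Gen (gm ((Scheme.Modules.pullback (snd G X).left).obj L) ((slice g).left y) hy t) := by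
  refine (Amp.gen_map_iso ((Scheme.Modules.pullbackId X.left).app L) (U := (slice g).left ⁻¹ᵁ O) hy _).trans ?_
  refine (Amp.gen_map_iso ((ModLimH13.cmp (slice g).left (snd G X).left (slice_snd g)).app L)
    (U := (slice g).left ⁻¹ᵁ O) hy _).trans ?_
  rw [res']
  erw [Amp.gm_res]
  exact Amp.gen_pullSec_iff (slice g).left (PicLoc.isInvertible_pullback _ hL) hy t

variable [GrpObj G] (a : AlgGrp.Action G X)
  (θ : (Scheme.Modules.pullback a.act.left).obj L ≅ (Scheme.Modules.pullback (snd G X).left).obj L)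

/-- A section moved by the action, as a section of the pullback along the projection. -/
def moved (s : Γ(L, ⊤)) : Γ((Scheme.Modules.pullback (snd G X).left).obj L, ⊤) :=
  M1.mres _ (fun _ _ => trivial : (⊤ : (G ⊗ X).left.Opens) ≤ a.act.left ⁻¹ᵁ ⊤)
    (θ.hom.app _ (M2.pullSec a.act.left L s))

/-- Translation of sections. -/
def trOp (s : Γ(L, ⊤)) : Γ(L, ⊤) :=
  M1.mres L (fun _ _ => trivial : (⊤ : X.left.Opens) ≤ (slice g).left ⁻¹ᵁ ⊤) (sl g ⊤ (moved a θ s))

theorem moved_add (s t : Γ(L, ⊤)) : moved a θ (s + t) = moved a θ s + moved a θ t := by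
  rw [moved, M2.pullSec_add, map_add, map_add]
  rfl

theorem trOp_add (s t : Γ(L, ⊤)) : trOp g a θ (s + t) = trOp g a θ s + trOp g a θ t := by
  rw [trOp, moved_add, sl_add, map_add]
  rfl

theorem trOp_sum {J : Type*} (u : Finset J) (t : J → Γ(L, ⊤)) :
    trOp g a θ (∑ i ∈ u, t i) = ∑ i ∈ u, trOp g a θ (t i) :=
  map_sum (AddMonoidHom.mk' (trOp g a θ) (trOp_add g a θ)) t u

theorem trOp_zero : trOp g a θ 0 = 0 := by
  simpa using trOp_sum g a θ (∅ : Finset Empty) (fun _ => 0)

theorem trOp_smul (f : Γ(X.left, ⊤)) (s : Γ(L, ⊤)) :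
    trOp g a θ (f • s) = (tr a g).left.appTop f • trOp g a θ s := by
  rw [trOp, moved, M2.pullSec_smul, Scheme.Modules.Hom.app_smul, M1.mres_smul, sl_smul, M1.mres_smul]
  congr 1
  rw [Scheme.Hom.app_eq_appLE, Scheme.Hom.app_eq_appLE]
  show (_ ≫ _ ≫ _ ≫ _ : Γ(X.left, ⊤) ⟶ Γ(X.left, ⊤)) f = (slice g ≫ a.act).left.appTop f
  simp only [Scheme.Hom.appLE_map, Scheme.Hom.appLE_map_assoc, Scheme.Hom.map_appLE, Scheme.Hom.appLE_comp_appLE,
    Scheme.Hom.appLE_comp_appLE_assoc]
  rw [Over.comp_left, Scheme.Hom.appTop, Scheme.Hom.app_eq_appLE]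
  rfl

theorem gen_moved_iff (hL : PicF.IsInvertible L) (s : Γ(L, ⊤)) (z : (G ⊗ X).left) :
    Gen (gm ((Scheme.Modules.pullback (snd G X).left).obj L) z (U := ⊤) trivial (moved a θ s)) ↔
      Gen (gm L (a.act.left z) (U := ⊤) trivial s) := by
  rw [moved]
  erw [Amp.gm_res]
  exact (Amp.gen_map_iso θ (U := a.act.left ⁻¹ᵁ ⊤) trivial _).trans
    (Amp.gen_pullSec_iff a.act.left hL (U := ⊤) trivial s)

theorem gen_trOp_iff (hL : PicF.IsInvertible L) (s : Γ(L, ⊤)) (y : X.left) :
    Gen (gm L y (U := ⊤) trivial (trOp g a θ s)) ↔ Gen (gm L ((tr a g).left y) (U := ⊤) trivial s) := by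
  rw [trOp]
  erw [Amp.gm_res]
  refine (gen_sl_iff g hL (O := ⊤) _ (y := y) (show (slice g).left y ∈ (⊤ : (G ⊗ X).left.Opens) from trivial)).trans ((gen_moved_iff a θ hL s _).trans (Iff.of_eq ?_))
  rfl

/-- Translation of a section moves its locus. -/
theorem genLocus_trOp (hL : PicF.IsInvertible L) (s : Γ(L, ⊤)) :
    CohB1.genLocus L (M1.secHom (trOp g a θ s)) = (tr a g).left ⁻¹ᵁ CohB1.genLocus L (M1.secHom s) :=
  Amp.genLocus_eq_of_forall hL _ _ fun y => by
    rw [Amp.gval_secHom, gen_trOp_iff g a θ hL]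
    refine Iff.trans ?_ (Amp.mem_genLocus_iff hL _).symm
    rw [Amp.gval_secHom]

variable (L) in
theorem slice_one_act : (slice (X := X) (1 : 𝟙_ (Over (Spec (CommRingCat.of k))) ⟶ G)).left ≫ a.act.left = 𝟙 X.left := by
  rw [← Over.comp_left, ← Over.id_left]
  exact congrArg CommaMorphism.left (tr_one a)

/-- The endomorphism given by the slice at the identity. -/
def atOne : L ⟶ L :=
  (Scheme.Modules.pullbackId X.left).inv.app L ≫
    (ModLimH13.cmp (slice 1).left a.act.left (slice_one_act a)).inv.app L ≫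
      (Scheme.Modules.pullback (slice 1).left).map θ.hom ≫
        (ModLimH13.cmp (slice 1).left (snd G X).left (slice_snd 1)).hom.app L ≫
          (Scheme.Modules.pullbackId X.left).hom.app L

instance : IsIso (atOne a θ) := by
  unfold atOne
  infer_instance

theorem atOne_app (s : Γ(L, ⊤)) : (atOne a θ).app ⊤ s = trOp 1 a θ s := by
  let σ := (slice (X := X) (1 : 𝟙_ (Over (Spec (CommRingCat.of k))) ⟶ G)).left
  let idI := Scheme.Modules.pullbackId X.left
  let e₀ : (⊤ : X.left.Opens) ≤ (𝟙 X.left) ⁻¹ᵁ ⊤ := fun _ _ => trivial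
  have h1 : (idI.inv.app L).app ⊤ s = res' (𝟙 X.left) L e₀ s := by
    have h := congrArg (fun v => (idI.inv.app L).app ⊤ v) (VA11.pullbackId_hom_pullSec L s).symm
    refine h.trans ?_
    have := congrArg (fun φ : (Scheme.Modules.pullback (𝟙 X.left)).obj L ⟶ (Scheme.Modules.pullback (𝟙 X.left)).obj L =>
      φ.app ⊤ (M2.pullSec (𝟙 X.left) L s)) (idI.hom_inv_id_app L)
    exact this.trans (M1.mres_id _ _ _).symm
  let e₁ : (⊤ : (G ⊗ X).left.Opens) ≤ a.act.left ⁻¹ᵁ ⊤ := fun _ _ => trivial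
  let e₂ : (⊤ : X.left.Opens) ≤ σ ⁻¹ᵁ ⊤ := fun _ _ => trivial
  let c := ModLimH13.cmp σ a.act.left (slice_one_act a)
  have h2 : (c.inv.app L).app ⊤ (res' (𝟙 X.left) L e₀ s) =
      res' σ ((Scheme.Modules.pullback a.act.left).obj L) e₂ (res' a.act.left L e₁ s) := by
    have h := ModLimH13.cmp_res' σ a.act.left L (slice_one_act a) e₁ e₂ s
    refine (congrArg (fun v => (c.inv.app L).app ⊤ v) h.symm).trans ?_
    exact congrArg (fun φ : (Scheme.Modules.pullback σ).obj ((Scheme.Modules.pullback a.act.left).obj L) ⟶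
      (Scheme.Modules.pullback σ).obj ((Scheme.Modules.pullback a.act.left).obj L) =>
      φ.app ⊤ (res' σ _ e₂ (res' a.act.left L e₁ s))) (c.hom_inv_id_app L)
  show ((idI.hom.app L).app ⊤) (((ModLimH13.cmp σ (snd G X).left (slice_snd 1)).hom.app L).app ⊤
    (((Scheme.Modules.pullback σ).map θ.hom).app ⊤ ((c.inv.app L).app ⊤ ((idI.inv.app L).app ⊤ s)))) = _
  rw [h1, h2, ModLimH13.map_res', trOp]
  refine Eq.trans ?_ (M1.app_mres (idI.hom.app L) e₂ _)
  rw [ModLimH13.mres_trans]
  have h3 : θ.hom.app ⊤ (res' a.act.left L e₁ s) = moved a θ s := M1.app_mres θ.hom e₁ _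
  rw [← h3]
  rfl

end Groth.Agent.Sumihiro14
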