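import Groth.Agent.Lib.Sumihiro14.Main
import Groth.Agent.Lib.Sumihiro14.Slice
import Groth.Agent.Lib.Sumihiro14.Loci
import Groth.Agent.S16119
import Groth.Agent.S16122

/-!
# A power of an ample module with a normalised isomorphism between its two pullbacks
-/

set_option autoImplicit false
set_option linter.style.haveILetI false
set_option linter.unusedSectionVars false
set_option backward.isDefEq.respectTransparency false
set_option backward.isDefEq.respectTransparency.types false
universe u

open CategoryTheory CategoryTheory.Limits MonoidalCategory CartesianMonoidalCategory MonObj AlgebraicGeometry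
open Topology TopologicalSpace

noncomputable section

namespace Groth.Agent.Sumihiro14

variable {k : Type u} [Field k] {G X : Over (Spec (CommRingCat.of k))} [GrpObj G] (a : AlgGrp.Action G X)

theorem exists_normalised {L : X.left.Modules}
    (θ₀ : (Scheme.Modules.pullback a.act.left).obj L ≅ (Scheme.Modules.pullback (snd G X).left).obj L) :
    ∃ θ : (Scheme.Modules.pullback a.act.left).obj L ≅ (Scheme.Modules.pullback (snd G X).left).obj L,
      ∀ s, trOp 1 a θ s = s := by
  let E := asIso (atOne a θ₀)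
  refine ⟨(Scheme.Modules.pullback a.act.left).mapIso E.symm ≪≫ θ₀, fun s => ?_⟩
  have h : ∀ t, moved a ((Scheme.Modules.pullback a.act.left).mapIso E.symm ≪≫ θ₀) t =
      moved a θ₀ (E.inv.app ⊤ t) := fun t => by
    rw [moved, moved, ← Amp.map_pullSec]
    rfl
  rw [trOp, h, ← trOp, ← atOne_app]
  exact congrArg (fun φ : L ⟶ L => φ.app ⊤ s) E.inv_hom_id

variable [IsAlgClosed k] [IsAffine G.left] [Smooth G.hom] [ConnectedSpace ↥G.left] [IsIntegral X.left]
  [IsSeparated X.hom] [LocallyOfFiniteType X.hom] [QuasiCompact X.hom]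

/-- Around every point a power of an ample module has a section with affine locus and a normalised isomorphism. -/
theorem exists_data (hX : Pi1.IsNormalScheme X.left) {L : X.left.Modules} (hL : CohB1.IsAmple L) (x : X.left) :
    ∃ (N : X.left.Modules) (θ : (Scheme.Modules.pullback a.act.left).obj N ≅ (Scheme.Modules.pullback (snd G X).left).obj N)
      (s : Γ(N, ⊤)), PicF.IsInvertible N ∧ (∀ t, trOp 1 a θ t = t) ∧ x ∈ loc s ∧ IsAffineOpen (loc s) := by
  obtain ⟨hLi, -, hc⟩ := Amp.isAmple_iff.1 hL
  obtain ⟨n, D, hD, hxD, hA⟩ := hc x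
  letI : PicGrp.Law G.left := M2.law _
  letI : PicGrp.Law X.left := M2.law _
  letI : PicGrp.Law (G ⊗ X).left := M2.law _
  haveI := Groth.Agent.S16122.result k G
  let e := Monoid.exponent (PicLoc.PicSet G.left)
  obtain ⟨d, hd⟩ : ∃ d, e = d + 1 := ⟨e - 1, by
    have : e ≠ 0 := Monoid.exponent_ne_zero_of_finite
    omega⟩
  let N := CohB1.tensorPow L ((n + 1) * e)
  have hN : PicF.IsInvertible N := Amp.isInvertible_tensorPow hLi _
  obtain ⟨s, hs⟩ := (hD.powPow hLi d).of_eq (show (n + 1) * (d + 1) = (n + 1) * e by rw [hd])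
  have h := Groth.Agent.S16119.result k G X hX a (M2.pullMul _) (M2.pullMul _) (PicGrp.cls L hLi ^ (n + 1))
  have hcls : (PicGrp.cls L hLi ^ (n + 1)) ^ e = PicGrp.cls N hN := by
    rw [← pow_mul]
    exact Subtype.ext (PicGrp.cls_pow_val hLi _)
  rw [show Monoid.exponent (PicLoc.PicSet G.left) = e from rfl, hcls, PicGrp.pullHom_cls, PicGrp.pullHom_cls] at h
  obtain ⟨θ₀⟩ := (PicGrp.cls_eq_cls_iff _ _).1 h
  obtain ⟨θ, hθ⟩ := exists_normalised a θ₀
  refine ⟨N, θ, Amp.gval s, hN, hθ, ?_, ?_⟩ <;> rw [loc, Amp.secHom_gval, hs]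
  exacts [hxD, hA]

end Groth.Agent.Sumihiro14
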