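import Groth.Agent.Lib.Sumihiro14.Expand
import Groth.Agent.Lib.UnitsRos.Char
import Groth.Agent.Lib.RatGrp14.Scheme

/-!
# Translations compose up to scalars
-/

set_option autoImplicit false
set_option linter.style.haveILetI false
set_option linter.unusedSectionVars false
set_option backward.isDefEq.respectTransparency false
set_option backward.isDefEq.respectTransparency.types false
universe u

open CategoryTheory CategoryTheory.Limits MonoidalCategory CartesianMonoidalCategory MonObj AlgebraicGeometry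
open Topology TopologicalSpace

noncomputable section

namespace Groth.Agent.Sumihiro14

open OrbitTop19 (tr)
open Groth.Agent.Amp (Gen gm)
open DiagGL (alg alg_comp)

variable {k : Type u} [Field k] {G X : Over (Spec (CommRingCat.of k))} [GrpObj G]

/-- Right multiplication by a point. -/
def rmul (h : 𝟙_ (Over (Spec (CommRingCat.of k))) ⟶ G) : G ⟶ G := 𝟙 G * (toUnit G ≫ h)

theorem comp_rmul {T : Over (Spec (CommRingCat.of k))} (x : T ⟶ G) (h : 𝟙_ (Over (Spec (CommRingCat.of k))) ⟶ G) :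
    x ≫ rmul h = x * (toUnit T ≫ h) := by
  rw [rmul, MonObj.comp_mul, Category.comp_id, ← Category.assoc, comp_toUnit]

theorem pt_rmul (g h : 𝟙_ (Over (Spec (CommRingCat.of k))) ⟶ G) : g ≫ rmul h = g * h := by
  rw [comp_rmul, Subsingleton.elim (toUnit _) (𝟙 (𝟙_ (Over (Spec (CommRingCat.of k))))), Category.id_comp]

theorem alg_vl_rmul (g h : 𝟙_ (Over (Spec (CommRingCat.of k))) ⟶ G) (b : Γ(G.left, ⊤)) :
    vl g ((rmul h).left.appTop b) = vl (g * h) b := by
  rw [vl, vl, ← CommRingCat.comp_apply (rmul h).left.appTop, ← Scheme.Hom.comp_appTop, ← Over.comp_left, pt_rmul]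

variable (a : AlgGrp.Action G X) (h : 𝟙_ (Over (Spec (CommRingCat.of k))) ⟶ G)

/-- `(g, y) ↦ (g h) · y`. -/
def twisted : G ⊗ X ⟶ X := lift (fst G X ≫ rmul h) (snd G X) ≫ a.act

theorem slice_twisted (g : 𝟙_ (Over (Spec (CommRingCat.of k))) ⟶ G) :
    slice g ≫ twisted a h = tr a (g * h) := by
  rw [twisted, ← Category.assoc, comp_lift, ← Category.assoc, slice, lift_fst, lift_snd, Category.assoc, pt_rmul]
  rfl

/-- `(g, z) ↦ (g, (g h)⁻¹ · z)` on `G ⊗ V`. -/
def untwist (V : X.left.Opens) : G ⊗ Over.mk (V.ι ≫ X.hom) ⟶ G ⊗ X :=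
  lift (fst G _) (lift (fst G _ ≫ rmul h)⁻¹ (snd G _ ≫ Over.homMk V.ι rfl) ≫ a.act)

theorem untwist_twisted (V : X.left.Opens) :
    untwist a h V ≫ twisted a h = snd G _ ≫ Over.homMk V.ι rfl := by
  rw [twisted, ← Category.assoc, comp_lift, ← Category.assoc, untwist, lift_fst, lift_snd,
    ← AlgGrpBasic19.act_mul, mul_inv_cancel, AlgGrpBasic19.act_one]

variable [IsAlgClosed k] [IsAffine G.left] [Smooth G.hom] [ConnectedSpace ↥G.left] [IsIntegral X.left]
  [IsSeparated X.hom] [LocallyOfFiniteType X.hom] {L : X.left.Modules}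
  (θ : (Scheme.Modules.pullback a.act.left).obj L ≅ (Scheme.Modules.pullback (snd G X).left).obj L)

/-- Two translations compose to a scalar multiple of a translation. -/
theorem exists_scalar (hL : PicF.IsInvertible L) (hθ : ∀ s, trOp 1 a θ s = s) (s : Γ(L, ⊤))
    (hne : (loc s : Set X.left).Nonempty) :
    ∃ c : Γ(G.left, ⊤), IsUnit c ∧ η[G].left.appTop c = 1 ∧
      ∀ g, trOp h a θ (trOp g a θ s) = alg X (vl g c) • trOp (g * h) a θ s := by
  haveI := RatGrp14.isIntegral_left G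
  haveI : LocallyOfFiniteType G.hom := inferInstance
  haveI : LocallyOfFiniteType (G ⊗ X).hom :=
    inferInstanceAs (LocallyOfFiniteType (pullback.fst G.hom X.hom ≫ G.hom))
  haveI : JacobsonSpace (G ⊗ X).left := LocallyOfFiniteType.jacobsonSpace (G ⊗ X).hom
  obtain ⟨J, _, b, t, -, hexp, -⟩ := exists_expansion a θ hL s
  let P := (Scheme.Modules.pullback (snd G X).left).obj L
  have hP : PicF.IsInvertible P := PicLoc.isInvertible_pullback _ hL
  let pb : Γ(L, ⊤) → Γ(P, ⊤) := fun u => M1.mres P (fun _ _ => trivial : (⊤ : (G ⊗ X).left.Opens) ≤ (snd G X).left ⁻¹ᵁ ⊤)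
    (M2.pullSec (snd G X).left L u)
  let cf : Γ(G.left, ⊤) → Γ((G ⊗ X).left, ⊤) := (fst G X).left.appTop
  let A : Γ(P, ⊤) := ∑ j, cf (b j) • pb (trOp h a θ (t j))
  let B : Γ(P, ⊤) := ∑ j, cf ((rmul h).left.appTop (b j)) • pb (t j)
  have hsl : ∀ (g : 𝟙_ (Over (Spec (CommRingCat.of k))) ⟶ G) (z : Γ(G.left, ⊤)) (u : Γ(L, ⊤)),
      M1.mres L (fun _ _ => trivial : (⊤ : X.left.Opens) ≤ (slice g).left ⁻¹ᵁ ⊤) (sl g ⊤ (cf z • pb u)) =
        alg X (vl g z) • u := by
    intro g z u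
    rw [sl_smul, M1.mres_smul, sl_mres, M1.mres_mres, sl_pullSec, M1.mres_mres, M1.mres_id]
    congr 1
    rw [← appTop_eq_alg (X := X) g z, ← lift_fst (toUnit X ≫ g) (𝟙 X), Over.comp_left, Scheme.Hom.comp_appTop]
    show X.left.presheaf.map _ _ = _
    rw [show (homOfLE (fun _ _ => trivial : (⊤ : X.left.Opens) ≤ (slice g).left ⁻¹ᵁ ⊤)).op = 𝟙 _ from rfl,
      X.left.presheaf.map_id]
    rfl
  have hA : ∀ g, M1.mres L (fun _ _ => trivial : (⊤ : X.left.Opens) ≤ (slice g).left ⁻¹ᵁ ⊤) (sl g ⊤ A) =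
      trOp h a θ (trOp g a θ s) := fun g => by
    rw [sl_sum, map_sum, hexp g, trOp_sum]
    exact Finset.sum_congr rfl fun j _ => by rw [hsl, trOp_smul, alg_comp]; rfl
  have hB : ∀ g, M1.mres L (fun _ _ => trivial : (⊤ : X.left.Opens) ≤ (slice g).left ⁻¹ᵁ ⊤) (sl g ⊤ B) =
      trOp (g * h) a θ s := fun g => by
    rw [sl_sum, map_sum, hexp (g * h)]
    exact Finset.sum_congr rfl fun j _ => by rw [hsl, alg_vl_rmul]; rfl
  let V := loc s
  let Ω : (G ⊗ X).left.Opens := (twisted a h).left ⁻¹ᵁ V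
  have hlocus : ∀ T : Γ(P, ⊤), (∀ g y, (Gen (gm L y (U := ⊤) trivial
      (M1.mres L (fun _ _ => trivial : (⊤ : X.left.Opens) ≤ (slice g).left ⁻¹ᵁ ⊤) (sl g ⊤ T))) ↔
        (tr a (g * h)).left y ∈ V)) → loc T = Ω := by
    intro T hT
    have key : ∀ z : (G ⊗ X).left, IsClosed ({z} : Set (G ⊗ X).left) → (z ∈ loc T ↔ z ∈ Ω) := by
      intro z hz
      obtain ⟨p, rfl⟩ := OrbitTop19.exists_point (G ⊗ X) z hz
      let g := p ≫ fst G X
      let q := p ≫ snd G X
      have hp : q ≫ slice g = p := by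
        apply CartesianMonoidalCategory.hom_ext
        · rw [slice, Category.assoc, lift_fst, ← Category.assoc, comp_toUnit,
            Subsingleton.elim (toUnit _) (𝟙 (𝟙_ (Over (Spec (CommRingCat.of k))))), Category.id_comp]
        · rw [slice, Category.assoc, lift_snd, Category.comp_id]
      let y := q.left (IsLocalRing.closedPoint k)
      have hy : (slice g).left y = p.left (IsLocalRing.closedPoint k) :=
        OrbitTop19.apply_comp_left q (slice g) p hp _
      rw [← hy, mem_loc_iff hP]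
      refine Iff.trans ?_ ((hT g y).trans ?_)
      · erw [Amp.gm_res]
        exact (gen_sl_iff g hL T (y := y) (show (slice g).left y ∈ (⊤ : (G ⊗ X).left.Opens) from trivial)).symm
      · rw [← slice_twisted]
        rfl
    exact le_antisymm (opens_le_of_closedPoints fun z hz hm => (key z hz).1 hm)
      (opens_le_of_closedPoints fun z hz hm => (key z hz).2 hm)
  have hgenV : ∀ g u y, Gen (gm L y (U := ⊤) trivial (trOp g a θ u)) ↔ (tr a g).left y ∈ loc u := fun g u y => by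
    rw [gen_trOp_iff g a θ hL, mem_loc_iff hL]
  have hlA : loc A = Ω := hlocus A fun g y => by
    rw [hA g, hgenV, mem_loc_iff hL, hgenV]
    rw [OrbitTop19.apply_comp_left (tr a h) (tr a g) _ (tr_tr a h g)]
  have hlB : loc B = Ω := hlocus B fun g y => by rw [hB g, hgenV]
  obtain ⟨v₀, hv₀, hbv₀⟩ := Amp.exists_ratio hP (M1.secHom B) (M1.secHom A)
  have hu₀ : IsUnit v₀ := by
    refine (G ⊗ X).left.toRingedSpace.isUnit_of_isUnit_germ _ v₀ fun z hz => ?_
    exact (Scheme.mem_basicOpen _ v₀ z hz).1 (hbv₀.le ⟨hlA.ge (hlB.le hz), hz⟩)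
  simp only [Amp.gval_secHom] at hv₀
  obtain ⟨v, hu, hv⟩ : ∃ v : Γ((G ⊗ X).left, Ω), IsUnit v ∧
      v • M1.mres P (le_top : Ω ≤ ⊤) B = M1.mres P (le_top : Ω ≤ ⊤) A := by
    refine ⟨M1.ores hlB.ge v₀, hu₀.map _, ?_⟩
    have := congrArg (M1.mres P hlB.ge) hv₀
    rw [M1.mres_smul, M1.mres_mres, M1.mres_mres] at this
    exact this
  -- the unit on `G ⊗ V`
  let Vo : Over (Spec (CommRingCat.of k)) := Over.mk (V.ι ≫ X.hom)
  haveI : Nonempty ↥Vo.left := ⟨⟨hne.choose, hne.choose_spec⟩⟩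
  haveI : IsIntegral Vo.left := isIntegral_of_isOpenImmersion V.ι
  haveI : LocallyOfFiniteType Vo.hom := inferInstanceAs (LocallyOfFiniteType (V.ι ≫ X.hom))
  have hΨ : (⊤ : (G ⊗ Vo).left.Opens) ≤ (untwist a h V).left ⁻¹ᵁ Ω := fun z _ => by
    show ((untwist a h V).left ≫ (twisted a h).left) z ∈ V
    rw [← Over.comp_left, untwist_twisted]
    exact ((snd G Vo).left z).2
  obtain ⟨χ, w, hχ, hw, hχw⟩ := UnitsRos.exists_units_mul (X := G) (Y := Vo)
    (hu.map ((untwist a h V).left.appLE Ω ⊤ hΨ).hom)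
  have hW : ∀ g, (tr a (g * h)).left ⁻¹ᵁ V ≤ (slice g).left ⁻¹ᵁ Ω := fun g => by
    show _ ≤ ((slice g).left ≫ (twisted a h).left) ⁻¹ᵁ V
    rw [← Over.comp_left, slice_twisted]
  let Wo : (𝟙_ (Over (Spec (CommRingCat.of k))) ⟶ G) → Over (Spec (CommRingCat.of k)) := fun g =>
    Over.mk (((tr a (g * h)).left ⁻¹ᵁ V).ι ≫ X.hom)
  let τ : ∀ g, Wo g ⟶ Vo := fun g => Over.homMk ((tr a (g * h)).left ∣_ V) (by
    show _ ≫ V.ι ≫ X.hom = _ ≫ X.hom
    rw [morphismRestrict_ι_assoc, Over.w])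
  let jW : ∀ g, Wo g ⟶ X := fun g => Over.homMk ((tr a (g * h)).left ⁻¹ᵁ V).ι rfl
  have hval : ∀ g, ((tr a (g * h)).left ⁻¹ᵁ V).ι.appLE ((tr a (g * h)).left ⁻¹ᵁ V) ⊤ (fun y _ => y.2)
        ((slice g).left.appLE Ω _ (hW g) v) =
      alg (Wo g) (vl g χ) * (τ g).left.appTop w := by
    intro g
    let j : Wo g ⟶ G ⊗ Vo := lift (toUnit (Wo g) ≫ g) (τ g)
    have hj : (j ≫ untwist a h V) = jW g ≫ slice g := by
      apply CartesianMonoidalCategory.hom_ext
      · rw [Category.assoc, untwist, lift_fst, Category.assoc, slice, lift_fst, lift_fst, ← Category.assoc,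
          comp_toUnit]
      · rw [Category.assoc, untwist, lift_snd, Category.assoc, slice, lift_snd, Category.comp_id, ← Category.assoc,
          comp_lift, GrpObj.comp_inv, ← Category.assoc, lift_fst, Category.assoc, pt_rmul, ← Category.assoc, lift_snd]
        have e : τ g ≫ Over.homMk V.ι rfl = jW g ≫ tr a (g * h) :=
          Over.OverMorphism.ext (morphismRestrict_ι _ _)
        rw [e, OrbitTop19.comp_tr, ← AlgGrpBasic19.act_mul, inv_mul_cancel, AlgGrpBasic19.act_one]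
    have h1 := congrArg (j.left.appTop) hχw
    rw [map_mul, ← UnitsRos.appTop_comp, ← UnitsRos.appTop_comp, lift_fst, lift_snd, appTop_eq_alg] at h1
    refine Eq.trans ?_ h1
    rw [← CommRingCat.comp_apply, Scheme.Hom.appLE_comp_appLE, ← CommRingCat.comp_apply, Scheme.Hom.appTop,
      Scheme.Hom.app_eq_appLE, Scheme.Hom.appLE_comp_appLE]
    exact NRQ21.appLE_hom_congr (congrArg CommaMorphism.left hj.symm) _ _ _
  have hinj : ∀ g, Function.Injective (((tr a (g * h)).left ⁻¹ᵁ V).ι.appLE ((tr a (g * h)).left ⁻¹ᵁ V) ⊤ (fun y _ => y.2)) := fun g =>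
    (NRQ21.appLE_bijective _ (by rw [Scheme.Opens.opensRange_ι]) (Scheme.Opens.ι_preimage_self _).symm).1
  have heq : ∀ g, (slice g).left.appLE Ω _ (hW g) v • M1.mres L le_top (trOp (g * h) a θ s) =
      M1.mres L (le_top : (tr a (g * h)).left ⁻¹ᵁ V ≤ ⊤) (trOp h a θ (trOp g a θ s)) := fun g => by
    have := congrArg (fun u => M1.mres L (hW g) (sl g Ω u)) hv
    rw [sl_smul (L := L) g v, sl_mres (L := L) g, sl_mres (L := L) g] at this
    simp only [M1.mres_smul, M1.mres_mres] at this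
    rw [← hA g, ← hB g, M1.mres_mres, M1.mres_mres]
    exact this
  have hgenW : ∀ g, M2.IsGenerator (M1.mres L (le_top : (tr a (g * h)).left ⁻¹ᵁ V ≤ ⊤) (trOp (g * h) a θ s)) := by
    intro g
    have he := Amp.isGenerator_genLocus hL (M1.secHom (trOp (g * h) a θ s))
    have hle : (tr a (g * h)).left ⁻¹ᵁ V ≤ loc (trOp (g * h) a θ s) := (genLocus_trOp (g * h) a θ hL s).ge
    simp only [Amp.gval_secHom] at he
    have := Amp.isGenerator_res hle he
    rwa [Amp.res_res] at this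
  -- normalisation
  have hone : alg Vo (vl 1 χ) * w = 1 := by
    have h1 : (slice (1 : 𝟙_ (Over (Spec (CommRingCat.of k))) ⟶ G)).left.appLE Ω _ (hW 1) v = 1 := by
      refine (hgenW 1 _ le_rfl).1 ?_
      show _ • M2.res L _ _ = (1 : Γ(X.left, _)) • M2.res L _ _
      rw [Amp.res_self, one_smul, heq, hθ s, _root_.one_mul h]
    haveI : IsIso (tr a ((1 : 𝟙_ (Over (Spec (CommRingCat.of k))) ⟶ G) * h)).left :=
      inferInstanceAs (IsIso ((Over.forget _).mapIso (OrbitTop19.trIso a _)).hom)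
    haveI : IsIso (τ 1).left := inferInstanceAs (IsIso (_ ∣_ V))
    refine ((ConcreteCategory.isIso_iff_bijective (τ 1).left.appTop).1 inferInstance).1 ?_
    rw [map_one, map_mul, alg_comp, ← hval 1, h1, map_one]
  let c : Γ(G.left, ⊤) := χ * alg G (vl 1 χ)⁻¹
  have hχ1 : vl 1 χ ≠ 0 := (hχ.map ((Scheme.ΓSpecIso (CommRingCat.of k)).hom.hom.comp
    (1 : 𝟙_ (Over (Spec (CommRingCat.of k))) ⟶ G).left.appTop.hom)).ne_zero
  refine ⟨c, hχ.mul ((isUnit_iff_ne_zero.2 (inv_ne_zero hχ1)).map _), ?_, fun g => ?_⟩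
  · apply (ConcreteCategory.bijective_of_isIso (Scheme.ΓSpecIso (CommRingCat.of k)).hom).1
    refine Eq.trans ?_ (map_one (Scheme.ΓSpecIso (CommRingCat.of k)).hom.hom).symm
    show vl η[G] c = 1
    rw [show (η[G] : 𝟙_ (Over (Spec (CommRingCat.of k))) ⟶ G) = 1 by
      rw [Hom.one_def, Subsingleton.elim (toUnit _) (𝟙 (𝟙_ (Over (Spec (CommRingCat.of k))))), Category.id_comp],
      vl_mul, vl_alg, mul_inv_cancel₀ hχ1]
  · haveI : IsIso (tr a (g * h)).left :=
      inferInstanceAs (IsIso ((Over.forget _).mapIso (OrbitTop19.trIso a _)).hom)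
    have hWne : (((tr a (g * h)).left ⁻¹ᵁ V : X.left.Opens) : Set X.left).Nonempty :=
      ⟨(inv (tr a (g * h)).left) hne.choose, by
        show (tr a (g * h)).left ((inv (tr a (g * h)).left) hne.choose) ∈ V
        rw [← Scheme.Hom.comp_apply, IsIso.inv_hom_id]
        exact hne.choose_spec⟩
    refine mres_injective_of_integral hL _ hWne ?_
    rw [M1.mres_smul, ← heq g]
    congr 1
    refine hinj g ?_
    rw [hval g]
    have h2 : w = alg Vo (vl 1 χ)⁻¹ := by
      calc w = alg Vo (vl 1 χ)⁻¹ * (alg Vo (vl 1 χ) * w) := by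
            rw [← _root_.mul_assoc, ← map_mul, inv_mul_cancel₀ hχ1, map_one, _root_.one_mul]
        _ = _ := by rw [hone, _root_.mul_one]
    rw [h2, alg_comp, ← map_mul]
    have h3 : ((tr a (g * h)).left ⁻¹ᵁ V).ι.appLE ((tr a (g * h)).left ⁻¹ᵁ V) ⊤ (fun y _ => y.2)
        (M1.ores (le_top : (tr a (g * h)).left ⁻¹ᵁ V ≤ ⊤) (alg X (vl g c))) = (jW g).left.appTop (alg X (vl g c)) := by
      rw [← CommRingCat.comp_apply, Scheme.Hom.map_appLE, Scheme.Hom.appTop, Scheme.Hom.app_eq_appLE]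
      rfl
    refine Eq.trans ?_ h3.symm
    rw [alg_comp, vl_mul, vl_alg]

end Groth.Agent.Sumihiro14
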