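import Groth.Agent.Lib.Sumihiro14.Scalar
import Groth.Agent.Lib.Sumihiro14.Normalise
import Groth.Agent.Lib.TorPts21.Torus
import Groth.Agent.Lib.DiagGL.Chars

/-!
# Weight sections for a torus
-/

set_option autoImplicit false
set_option linter.style.haveILetI false
set_option linter.unusedSectionVars false
set_option backward.isDefEq.respectTransparency false
set_option backward.isDefEq.respectTransparency.types false
universe u

open CategoryTheory CategoryTheory.Limits MonoidalCategory CartesianMonoidalCategory MonObj AlgebraicGeometry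
open Topology TopologicalSpace

noncomputable section

namespace Groth.Agent.Sumihiro14

open OrbitTop19 (tr)
open DiagGL (alg alg_comp Chars charsDiag)
open CubeField (Fn)

variable {k : Type u} [Field k] {M : Type} [AddCommGroup M] {T : Over (Spec (CommRingCat.of k))} [GrpObj T]
  (C : Chars M T)

/-- A character as a function. -/
def chi (m : M) : Γ(T.left, ⊤) := C.ch (𝟙 T) (Multiplicative.ofAdd m)

/-- Its values. -/
def chv (g : 𝟙_ (Over (Spec (CommRingCat.of k))) ⟶ T) (m : M) : k :=
  (Scheme.ΓSpecIso (CommRingCat.of k)).hom (C.ch g (Multiplicative.ofAdd m))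

theorem vl_chi (g : 𝟙_ (Over (Spec (CommRingCat.of k))) ⟶ T) (m : M) : vl g (chi C m) = chv C g m := by
  rw [vl, chi, ← C.nat, Category.comp_id]
  rfl

theorem chv_add (g : 𝟙_ (Over (Spec (CommRingCat.of k))) ⟶ T) (m m' : M) :
    chv C g (m + m') = chv C g m * chv C g m' := by
  rw [chv, ofAdd_add, map_mul]
  exact map_mul (Scheme.ΓSpecIso (CommRingCat.of k)).hom.hom _ _

theorem chv_mul (g h : 𝟙_ (Over (Spec (CommRingCat.of k))) ⟶ T) (m : M) :
    chv C (g * h) m = chv C g m * chv C h m := by
  rw [chv, C.mul]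
  exact map_mul (Scheme.ΓSpecIso (CommRingCat.of k)).hom.hom _ _

theorem chv_one (m : M) : chv C 1 m = 1 := by
  rw [chv, C.one]
  exact map_one (Scheme.ΓSpecIso (CommRingCat.of k)).hom.hom

theorem chv_ne_zero (g : 𝟙_ (Over (Spec (CommRingCat.of k))) ⟶ T) (m : M) : chv C g m ≠ 0 := fun h => by
  have := chv_mul C g g⁻¹ m
  rw [mul_inv_cancel, chv_one, h, zero_mul] at this
  exact one_ne_zero this

/-- The retraction onto the standard diagonalisable group. -/
theorem exists_retraction : ∃ (f : T ⟶ Red.diag k M) (w : Red.diag k M ⟶ T), f ≫ w = 𝟙 T ∧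
    C.ch w = (charsDiag k M).ch (𝟙 (Red.diag k M)) ∧ (charsDiag k M).ch f = C.ch (𝟙 T) := by
  obtain ⟨f, hf⟩ := (charsDiag k M).surj (C.ch (𝟙 T))
  obtain ⟨w, hw⟩ := C.surj ((charsDiag k M).ch (𝟙 (Red.diag k M)))
  refine ⟨f, w, C.inj fun a => ?_, hw, hf⟩
  rw [C.nat, hw, ← (charsDiag k M).nat, Category.comp_id, hf]

/-- Functions are combinations of characters. -/
theorem exists_sum_chi (b : Γ(T.left, ⊤)) : ∃ r : M →₀ k, b = r.sum fun m c => alg T c * chi C m := by
  classical
  obtain ⟨f, w, hfw, -, hf⟩ := exists_retraction C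
  obtain ⟨z, hz⟩ := (DiagGL.emb k M).surjective (w.left.appTop b)
  refine ⟨z.coeff.mapDomain Multiplicative.toAdd, ?_⟩
  rw [Finsupp.sum_mapDomain_index (fun m => by rw [map_zero, zero_mul]) fun m c c' => by rw [map_add, add_mul]]
  have hb : f.left.appTop (DiagGL.emb k M z) = b := by
    rw [hz, ← UnitsRos.appTop_comp, hfw, UnitsRos.appTop_id]
  refine hb.symm.trans ?_
  conv_lhs => rw [← MonoidAlgebra.sum_coeff_single z]
  rw [Finsupp.sum, map_sum, map_sum, Finsupp.sum]
  refine Finset.sum_congr rfl fun a _ => ?_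
  rw [show MonoidAlgebra.single a (z.coeff a) = MonoidAlgebra.single 1 (z.coeff a) * MonoidAlgebra.single a 1 by
    rw [MonoidAlgebra.single_mul_single, _root_.one_mul, _root_.mul_one], map_mul, map_mul]
  congr 1
  · rw [← DiagGL.alg_D]
    exact alg_comp f _
  · show _ = C.ch (𝟙 T) a
    rw [← hf]
    show f.left.appTop (DiagGL.emb k M (MonoidAlgebra.of k (Multiplicative M) a)) = _
    rw [← Category.comp_id f, (charsDiag k M).nat, Category.comp_id]
    congr 1

variable [IsAlgClosed k] [IsReduced T.left] [LocallyOfFiniteType T.hom]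

theorem chv_injective : Function.Injective (fun m g => chv C g m) := fun m m' h => by
  obtain ⟨f, w, hfw, hw, -⟩ := exists_retraction C
  have h1 : chi C m = chi C m' := sub_eq_zero.1 (eq_zero_of_vl _ fun g => by
    have hsub : vl g (chi C m - chi C m') = vl g (chi C m) - vl g (chi C m') :=
      map_sub ((Scheme.ΓSpecIso (CommRingCat.of k)).hom.hom.comp g.left.appTop.hom) _ _
    rw [hsub, vl_chi, vl_chi, sub_eq_zero]
    exact congrFun h g)
  have h2 := congrArg w.left.appTop h1
  rw [chi, chi, ← C.nat, ← C.nat, Category.comp_id, hw] at h2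
  have h3 : DiagGL.emb k M (MonoidAlgebra.of k (Multiplicative M) (Multiplicative.ofAdd m)) =
      DiagGL.emb k M (MonoidAlgebra.of k (Multiplicative M) (Multiplicative.ofAdd m')) := by
    have e : ∀ z, DiagGL.emb k M z = ((Scheme.ΓSpecIso (CommRingCat.of (MonoidAlgebra k (Multiplicative M)))).inv ≫
        (𝟙 (Red.diag k M) : Red.diag k M ⟶ _).left.appTop).hom z := fun z => by
      rw [Over.id_left, Scheme.Hom.id_appTop]
      erw [Category.comp_id]
      rfl
    rw [e, e]
    exact h2
  exact Multiplicative.ofAdd.injective (MonoidAlgebra.of_injective ((DiagGL.emb k M).injective h3))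

/-- The value maps, as homomorphisms. -/
def chvHom (m : M) : (𝟙_ (Over (Spec (CommRingCat.of k))) ⟶ T) →* k where
  toFun g := chv C g m
  map_one' := chv_one C m
  map_mul' g h := chv_mul C g h m

theorem linearIndependent_chv : LinearIndependent k (fun (m : M) (g : 𝟙_ (Over (Spec (CommRingCat.of k))) ⟶ T) => chv C g m) :=
  (linearIndependent_monoidHom (𝟙_ (Over (Spec (CommRingCat.of k))) ⟶ T) k).comp (chvHom C)
    fun _ _ h => chv_injective C (funext fun g => DFunLike.congr_fun h g)

/-- A multiplicative combination of characters is a character. -/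
theorem exists_chv_eq (b : Γ(T.left, ⊤)) (φ : (𝟙_ (Over (Spec (CommRingCat.of k))) ⟶ T) →* k)
    (hφ : ∀ g, φ g = vl g b) : ∃ m, ∀ g, chv C g m = φ g := by
  by_contra hne
  push Not at hne
  have hnm : ∀ m, chvHom C m ≠ φ := fun m h => (hne m).elim fun g hg => hg (DFunLike.congr_fun h g)
  obtain ⟨r, hr⟩ := exists_sum_chi C b
  let f : Option M → ((𝟙_ (Over (Spec (CommRingCat.of k))) ⟶ T) →* k) := fun o => o.elim φ (chvHom C)
  have hf : Function.Injective f := by
    rintro (_ | m) (_ | m') h
    · rfl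
    · exact absurd h.symm (hnm m')
    · exact absurd h (hnm m)
    · exact congrArg some (chv_injective C (funext fun g => DFunLike.congr_fun h g))
  have hli := (linearIndependent_monoidHom (𝟙_ (Over (Spec (CommRingCat.of k))) ⟶ T) k).comp f hf
  refine hli.notMem_span_image (s := Set.range some) (x := none) (by simp) ?_
  have he : (⇑φ : (𝟙_ (Over (Spec (CommRingCat.of k))) ⟶ T) → k) =
      r.sum fun m c => c • ⇑(chvHom C m) := funext fun g => by
    rw [hφ, hr, Finsupp.sum, Finsupp.sum, Finset.sum_apply]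
    refine ((map_sum (vlL g) (s := r.support) (f := fun m => (alg T (r m) * chi C m : Fn T.hom ⊤)))).trans ?_
    refine Finset.sum_congr rfl fun m _ => ?_
    show vl g (alg T (r m) * chi C m) = _
    rw [vl_mul, vl_alg, vl_chi]
    rfl
  show (⇑φ : (𝟙_ (Over (Spec (CommRingCat.of k))) ⟶ T) → k) ∈ _
  rw [he]
  exact Submodule.sum_mem _ fun m _ => Submodule.smul_mem _ _ (Submodule.subset_span ⟨some m, ⟨m, rfl⟩, rfl⟩)

end Groth.Agent.Sumihiro14
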