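import Groth.Agent.Lib.Sumihiro14.Torus

/-!
# An affine stable open around a point, for a torus
-/

set_option autoImplicit false
set_option linter.style.haveILetI false
set_option linter.unusedSectionVars false
set_option backward.isDefEq.respectTransparency false
set_option backward.isDefEq.respectTransparency.types false
universe u

open CategoryTheory CategoryTheory.Limits MonoidalCategory CartesianMonoidalCategory MonObj AlgebraicGeometry
open Topology TopologicalSpace

noncomputable section

namespace Groth.Agent.Sumihiro14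

open OrbitTop19 (tr)
open DiagGL (alg alg_comp Chars)
open CubeField (Fn)

variable {k : Type u} [Field k] [IsAlgClosed k] {T X : Over (Spec (CommRingCat.of k))} [GrpObj T]
  {M : Type} [AddCommGroup M] (C : Chars M T) [IsReduced T.left] [LocallyOfFiniteType T.hom]

/-- Vanishing combinations with character coefficients have vanishing coefficients. -/
theorem eq_zero_of_forall_sum {L : X.left.Modules} (F : Finset M) (u : M → Γ(L, ⊤))
    (h : ∀ g, ∑ m ∈ F, alg X (chv C g m) • u m = 0) {m : M} (hm : m ∈ F) : u m = 0 := by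
  classical
  let b : F → Fn T.hom ⊤ := fun m => chi C m.1
  have hb : LinearIndependent k b := by
    refine Fintype.linearIndependent_iff.2 fun r hr => ?_
    refine Fintype.linearIndependent_iff.1 ((linearIndependent_chv C).comp _ Subtype.val_injective) r ?_
    funext g
    have := congrArg (vlL g) hr
    rw [map_sum, map_zero] at this
    rw [Finset.sum_apply, Pi.zero_apply, ← this]
    refine Finset.sum_congr rfl fun j _ => ?_
    rw [map_smul]
    show r j * chv C g j.1 = r j * vl g (chi C j.1)
    rw [vl_chi]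
  obtain ⟨c, hc⟩ := Finsupp.mem_span_range_iff_exists_finsupp.1
    ((span_vl_eq_top b hb).ge (trivial : (Pi.single (⟨m, hm⟩ : F) (1 : k)) ∈ (⊤ : Submodule k (F → k))))
  have h' : ∑ g ∈ c.support, alg X (c g) • ∑ j : F, alg X (chv C g j.1) • u j.1 = 0 :=
    Finset.sum_eq_zero fun g _ => by
      rw [Finset.sum_coe_sort F (fun j => alg X (chv C g j) • u j), h g, smul_zero]
  simp only [Finset.smul_sum, smul_smul, ← map_mul] at h'
  rw [Finset.sum_comm] at h'
  simp only [← Finset.sum_smul, ← map_sum] at h'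
  have hv : ∀ j : F, ∑ g ∈ c.support, c g * chv C g j.1 = (Pi.single (⟨m, hm⟩ : F) (1 : k) : F → k) j := fun j => by
    have := congrFun hc j
    simp only [Finsupp.sum, Finset.sum_apply] at this
    refine Eq.trans ?_ this
    refine Finset.sum_congr rfl fun g _ => ?_
    show _ = c g * vl g (chi C j.1)
    rw [vl_chi]
  simp only [hv] at h'
  rw [Finset.sum_eq_single (⟨m, hm⟩ : F)] at h'
  · simpa using h'
  · intro j _ hj
    rw [Pi.single_eq_of_ne hj, map_zero, zero_smul]
  · exact fun hh => absurd (Finset.mem_univ _) hh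

theorem eq_zero_of_loc_eq_bot [IsIntegral X.left] {L : X.left.Modules} (hL : PicF.IsInvertible L) {t : Γ(L, ⊤)}
    (h : loc t = ⊥) : t = 0 := by
  obtain ⟨U, e, hηU, -, -, he⟩ := Amp.exists_isGenerator hL (V := ⊤) (x := genericPoint X.left) trivial
  obtain ⟨c, hc⟩ := (he U le_rfl).2 (M1.mres L (le_top : U ≤ ⊤) t)
  simp only [Amp.res_self] at hc
  haveI : Nonempty U := ⟨⟨_, hηU⟩⟩
  have hc0 : c = 0 := by
    by_contra hne
    have hb : X.left.basicOpen c ≠ ⊥ := by rwa [Ne, basicOpen_eq_bot_iff]
    obtain ⟨y, hy⟩ : ∃ y, y ∈ X.left.basicOpen c := by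
      by_contra hno
      exact hb (le_antisymm (fun y hy => absurd ⟨y, hy⟩ hno) bot_le)
    have hyU := X.left.basicOpen_le c hy
    have : y ∈ loc t := by
      rw [mem_loc_iff hL, ← Amp.gm_res (le_top : U ≤ ⊤) hyU]
      show Amp.Gen (Amp.gm L y hyU (M1.mres L _ t))
      rw [← hc, Amp.gm_smul]
      exact ((Amp.gen_of_isGenerator he hyU).ne_zero_smul _).2 ((Scheme.mem_basicOpen _ c y hyU).1 hy)
    rw [h] at this
    exact this
  refine mres_injective_of_integral hL U ⟨_, hηU⟩ ?_
  rw [← hc, hc0, zero_smul, map_zero]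

variable [IsAffine T.left] [Smooth T.hom] [ConnectedSpace ↥T.left] [IsIntegral X.left] [IsSeparated X.hom]
  [LocallyOfFiniteType X.hom] [QuasiCompact X.hom] (a : AlgGrp.Action T X) [IsAddTorsionFree M]

include C in
/-- A point of a normal variety with an ample module has a stable affine neighbourhood under a torus. -/
theorem exists_stable_affine (hX : Pi1.IsNormalScheme X.left) {L : X.left.Modules} (hL : CohB1.IsAmple L)
    (x : X.left) : ∃ U : X.left.Opens, x ∈ U ∧ IsAffineOpen U ∧ ∀ g, (tr a g).left ⁻¹ᵁ U = U := by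
  classical
  obtain ⟨N, θ, s, hN, hθ, hxs, hsA⟩ := exists_data a hX hL x
  obtain ⟨J, _, b, t, -, hexp, hspan⟩ := exists_expansion a θ hN s
  choose r hr using fun j => exists_sum_chi C (b j)
  let F : Finset M := Finset.univ.biUnion fun j => (r j).support
  let S : M → Γ(N, ⊤) := fun m => ∑ j, alg X (r j m) • t j
  have hS0 : ∀ m, m ∉ F → S m = 0 := fun m hm => Finset.sum_eq_zero fun j _ => by
    have : r j m = 0 := by
      by_contra h
      exact hm (Finset.mem_biUnion.2 ⟨j, Finset.mem_univ j, Finsupp.mem_support_iff.2 h⟩)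
    rw [this, map_zero, zero_smul]
  have hvl : ∀ g j, vlL g (b j) = ∑ m ∈ F, r j m * chv C g m := fun g j => by
    rw [show b j = (show Fn T.hom ⊤ from (r j).sum fun m c => alg T c * chi C m) from hr j, Finsupp.sum]
    refine (map_sum (vlL g) (s := (r j).support) (f := fun m => (show Fn T.hom ⊤ from (alg T (r j m) * chi C m : Γ(T.left, ⊤))))).trans ?_
    refine (Finset.sum_congr rfl fun m _ => ?_).trans
      (Finset.sum_subset (Finset.subset_biUnion_of_mem (fun j => (r j).support) (Finset.mem_univ j))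
        (fun m _ hm => by rw [Finsupp.notMem_support_iff.1 hm, zero_mul]))
    show vl g (alg T (r j m) * chi C m) = _
    rw [vl_mul, vl_alg, vl_chi]
  have hRg : ∀ g, trOp g a θ s = ∑ m ∈ F, alg X (chv C g m) • S m := fun g => by
    rw [hexp g]
    simp only [S, Finset.smul_sum, smul_smul, ← map_mul]
    rw [Finset.sum_comm]
    refine Finset.sum_congr rfl fun j _ => ?_
    rw [← Finset.sum_smul, ← map_sum, hvl g j]
    congr 2
    exact Finset.sum_congr rfl fun m _ => mul_comm _ _
  have hs : s = ∑ m ∈ F, S m := by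
    conv_lhs => rw [← hθ s, hRg 1]
    exact Finset.sum_congr rfl fun m _ => by rw [chv_one, map_one, one_smul]
  have htrA : ∀ g, IsAffineOpen (loc (trOp g a θ s)) := fun g => by
    haveI : IsIso (tr a g).left :=
      inferInstanceAs (IsIso ((Over.forget _).mapIso (OrbitTop19.trIso a g)).hom)
    rw [loc, genLocus_trOp g a θ hN s]
    exact hsA.preimage_of_isIso _
  have hSA : ∀ m, IsAffineOpen (loc (S m)) := fun m => isAffineOpen_loc_sum hN _ _ t fun j _ => by
    obtain ⟨u, c, hc⟩ := hspan j
    rw [hc]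
    exact isAffineOpen_loc_sum hN _ _ _ fun g _ => htrA g
  obtain ⟨m₁, -, hxm⟩ := exists_mem_loc_of_sum hN F S (by rw [← hs]; exact hxs)
  refine ⟨loc (S m₁), hxm, hSA m₁, fun h => ?_⟩
  obtain ⟨c, hc, hc1, hsc⟩ := exists_scalar a h θ hN hθ s ⟨x, hxs⟩
  let φ : (𝟙_ (Over (Spec (CommRingCat.of k))) ⟶ T) →* k :=
    { toFun := fun g => vl g c
      map_one' := by
        rw [vl, show (1 : 𝟙_ (Over (Spec (CommRingCat.of k))) ⟶ T) = η[T] by
          rw [Hom.one_def, Subsingleton.elim (toUnit _) (𝟙 (𝟙_ (Over (Spec (CommRingCat.of k))))), Category.id_comp],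
          hc1]
        exact map_one (Scheme.ΓSpecIso (CommRingCat.of k)).hom.hom
      map_mul' := fun g g' => by
        have hμ : (g * g') = lift g g' ≫ μ[T] := Hom.mul_def g g'
        rw [vl, hμ, UnitsRos.appTop_comp, UnitsRos.isChar T hc hc1, map_mul, ← UnitsRos.appTop_comp,
          ← UnitsRos.appTop_comp, lift_fst, lift_snd]
        exact map_mul (Scheme.ΓSpecIso (CommRingCat.of k)).hom.hom _ _ }
  obtain ⟨m₀, hm₀⟩ := exists_chv_eq C c φ fun _ => rfl
  let F' : Finset M := F ∪ F.image (· + m₀)
  have hrel : ∀ g, ∑ m ∈ F', alg X (chv C g m) • (trOp h a θ (S m) - alg X (chv C h (m - m₀)) • S (m - m₀)) = 0 := by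
    intro g
    simp only [smul_sub, Finset.sum_sub_distrib]
    rw [sub_eq_zero]
    have h1 : ∑ m ∈ F', alg X (chv C g m) • trOp h a θ (S m) = trOp h a θ (trOp g a θ s) := by
      rw [hRg g, trOp_sum]
      simp only [trOp_smul, alg_comp]
      refine (Finset.sum_subset Finset.subset_union_left fun m _ hm => ?_).symm
      rw [hS0 m hm, trOp_zero, smul_zero]
    rw [h1, hsc g, hRg (g * h), Finset.smul_sum]
    have h2 : ∑ m ∈ F.image (· + m₀), alg X (chv C g m) • alg X (chv C h (m - m₀)) • S (m - m₀) =
        ∑ m ∈ F, alg X (vl g c) • alg X (chv C (g * h) m) • S m := by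
      rw [Finset.sum_image fun _ _ _ _ h => add_right_cancel h]
      refine Finset.sum_congr rfl fun m _ => ?_
      rw [add_sub_cancel_right, smul_smul, smul_smul, ← map_mul, ← map_mul, chv_add, chv_mul, hm₀ g]
      congr 2
      show chv C g m * vl g c * chv C h m = vl g c * (chv C g m * chv C h m)
      ring
    rw [← h2]
    refine Finset.sum_subset Finset.subset_union_right fun m _ hm => ?_
    rw [hS0 (m - m₀) (fun hmem => hm (Finset.mem_image.2 ⟨_, hmem, sub_add_cancel m m₀⟩)), smul_zero, smul_zero]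
  have key : ∀ m, trOp h a θ (S m) = alg X (chv C h (m - m₀)) • S (m - m₀) := fun m => by
    by_cases hm : m ∈ F'
    · exact sub_eq_zero.1 (eq_zero_of_forall_sum C F' _ hrel hm)
    · rw [hS0 m (fun hh => hm (Finset.mem_union_left _ hh)), trOp_zero,
        hS0 (m - m₀) (fun hh => hm (Finset.mem_union_right _ (Finset.mem_image.2 ⟨_, hh, sub_add_cancel m m₀⟩))),
        smul_zero]
  have hne : ∀ m, S m ≠ 0 → S (m - m₀) ≠ 0 := fun m hm h0 => by
    refine hm (eq_zero_of_loc_eq_bot hN ?_)
    have h1 : loc (trOp h a θ (S m)) = ⊥ := by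
      rw [key m, h0, smul_zero, loc_zero hN]
    rw [loc, genLocus_trOp h a θ hN (S m)] at h1
    haveI : IsIso (tr a h).left :=
      inferInstanceAs (IsIso ((Over.forget _).mapIso (OrbitTop19.trIso a h)).hom)
    refine le_antisymm (fun y hy => ?_) bot_le
    have : (inv (tr a h).left) y ∈ (tr a h).left ⁻¹ᵁ loc (S m) := by
      show (tr a h).left ((inv (tr a h).left) y) ∈ loc (S m)
      rw [← Scheme.Hom.comp_apply, IsIso.inv_hom_id]
      exact hy
    rw [h1] at this
    exact absurd this id
  have hne₁ : S m₁ ≠ 0 := fun h0 => by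
    rw [h0, loc_zero hN] at hxm
    exact hxm
  have hm0 : m₀ = 0 := by
    by_contra hm0
    have hall : ∀ n : ℕ, S (m₁ - n • m₀) ≠ 0 := fun n => by
      induction n with
      | zero => simpa using hne₁
      | succ n ih =>
        rw [succ_nsmul, ← sub_sub]
        exact hne _ ih
    have hmem : ∀ n : ℕ, m₁ - n • m₀ ∈ F := fun n => by
      by_contra hn
      exact hall n (hS0 _ hn)
    have hinf : Set.Infinite (Set.range fun n : ℕ => m₁ - n • m₀) := Set.infinite_range_of_injective fun i j hij => by
      have : i • m₀ = j • m₀ := sub_right_injective hij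
      by_contra hne'
      rcases lt_or_gt_of_ne hne' with h | h
      · obtain ⟨d, rfl⟩ := Nat.exists_eq_add_of_lt h
        rw [add_assoc, add_nsmul, left_eq_add] at this
        exact hm0 ((nsmul_eq_zero_iff_right (Nat.succ_ne_zero d)).1 this)
      · obtain ⟨d, rfl⟩ := Nat.exists_eq_add_of_lt h
        rw [add_assoc, add_nsmul, add_eq_left] at this
        exact hm0 ((nsmul_eq_zero_iff_right (Nat.succ_ne_zero d)).1 this)
    exact hinf ((F.finite_toSet).subset (Set.range_subset_iff.2 hmem))
  have h1 : loc (trOp h a θ (S m₁)) = loc (S m₁) := by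
    rw [key m₁, hm0, sub_zero]
    have hu : IsUnit (alg X (chv C h m₁)) := (isUnit_iff_ne_zero.2 (chv_ne_zero C h m₁)).map _
    ext y
    rw [SetLike.mem_coe, SetLike.mem_coe, mem_loc_iff hN, mem_loc_iff hN, Amp.gm_smul, Amp.gen_smul_iff hN]
    exact and_iff_right (hu.map _)
  exact (genLocus_trOp h a θ hN (S m₁)).symm.trans h1

end Groth.Agent.Sumihiro14
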